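import Mathlib
import Cfsg.Agent.Lib.Helper10.BR0

/-!
# S0999 (Brauer–Reynolds), piece BR-X4: `exists_pre_of`

From the bundled conclusion `DOut` of the cyclic-defect theory to the block-free structure `Pre`.
-/

set_option autoImplicit false

namespace Cfsg.Agent.Lib.Helper10.BR

open Cfsg
open Cfsg.Agent.Lib.Helper83 (trivIrr)
open scoped ComplexConjugate

namespace X4

/-- a simple non-cyclic group is perfect -/
theorem perfect {G : Type*} [Group G] [IsSimpleGroup G] (hG : ¬ IsCyclic G) :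
    commutator G = ⊤ := by
  rcases (inferInstance : (commutator G).Normal).eq_bot_or_eq_top with h | h
  · exfalso
    apply hG
    have hcomm : ∀ a b : G, a * b = b * a := by
      intro a b
      have h1 := Subgroup.commutator_mem_commutator (Subgroup.mem_top a) (Subgroup.mem_top b)
      rw [← commutator_def, h, Subgroup.mem_bot, commutatorElement_eq_one_iff_mul_comm] at h1
      exact h1
    let _i : CommGroup G := { ‹Group G› with mul_comm := hcomm }
    exact IsSimpleGroup.isCyclic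
  · exact h

/-- nontrivial irreducible characters of a perfect group have degree at least two -/
theorem two_le_deg {G : Type*} [Group G] (hperf : commutator G = ⊤) (χ : IrrCharacter G)
    (hχ : χ ≠ trivIrr G) : 2 ≤ charDegree (χ : G → ℂ) := by
  obtain ⟨hpos, h1⟩ := Cfsg.Agent.Lib.Helper83.irr_degree χ.2
  by_contra hlt
  have hd1 : charDegree (χ : G → ℂ) = 1 := by omega
  have hχ1 : (χ : G → ℂ) 1 = 1 :=
    (Cfsg.Agent.Lib.Helper83.irr_charDegree_eq_one_iff χ.2).mp hd1
  apply hχ
  apply Subtype.ext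
  funext g
  have hg : g ∈ commutator G := by
    rw [hperf]
    exact Subgroup.mem_top g
  rw [Cfsg.Agent.Lib.Helper83.irr_linear_commutator χ.2 hχ1 hg]
  rfl

end X4

/-- BR-X4 -/
theorem exists_pre_of {G : Type*} [Group G] [Fintype G] [IsSimpleGroup G] (hG : ¬ IsCyclic G)
    (p : ℕ) [Fact p.Prime] (hp5 : 5 ≤ p) (M : Ideal AlgInt) (hM : IsPModular p M)
    (P : Sylow p G) (hP : Nat.card P = p) (e t n : ℕ) (he2 : 2 ≤ e) (het : e * t = p - 1)
    (hn : 2 ≤ n) (hne : n * e < p)
    (X Y : Set (IrrCharacter G)) (εX : IrrCharacter G → ℤ) (ε : ℤ)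
    (hD : DOut G p M (P : Subgroup G) e X Y εX ε)
    (htriv : trivIrr G ∈ X ∧ εX (trivIrr G) = 1)
    (hdeg : ∀ χ ∈ X, charDegree (χ : G → ℂ) ∣ (1 + n * p) * e)
    (harith : ∀ (d : ℕ) (s : ℤ), 2 ≤ d → d ∣ (1 + n * p) * e → (s = 1 ∨ s = -1) →
      (d : ℤ) ≡ s [ZMOD p] →
      (s = 1 ∧ d = 1 + n * p) ∨ (s = -1 ∧ d = p - 1 ∧ (n + 1) * e = p - 1)) :
    ∃ (x₀ : ℕ) (A B Yf : Finset (IrrCharacter G)),
      Pre G p M (P : Subgroup G) e t n ε x₀ A B Yf := by
  classical
  have hp : p.Prime := Fact.out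
  have hperf := X4.perfect hG
  have he0 : 0 < e := by omega
  have ht : 1 ≤ t := by
    rcases Nat.eq_zero_or_pos t with h | h
    · rw [h, mul_zero] at het
      omega
    · exact h
  have hcardY : Nat.card Y = t := by
    rw [hD.cardY, ← het, Nat.mul_div_cancel_left t he0]
  have hXfin : X.Finite := by
    have h0 : Nat.card X ≠ 0 := by
      rw [hD.cardX]
      omega
    exact Set.finite_coe_iff.mp (Nat.finite_of_card_ne_zero h0)
  have hYfin : Y.Finite := by
    have h0 : Nat.card Y ≠ 0 := by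
      rw [hcardY]
      omega
    exact Set.finite_coe_iff.mp (Nat.finite_of_card_ne_zero h0)
  obtain ⟨θ₀, hθ₀⟩ : Y.Nonempty := by
    rw [Set.nonempty_iff_ne_empty]
    intro h
    rw [h] at hcardY
    simp at hcardY
    omega
  have hone : ¬ p ∣ orderOf (1 : G) := by
    rw [orderOf_one, Nat.dvd_one]
    exact hp.one_lt.ne'
  have htrivY : trivIrr G ∉ Y := fun h => Set.disjoint_left.mp hD.disj htriv.1 h
  have hθ₀ne : θ₀ ≠ trivIrr G := fun h => htrivY (h ▸ hθ₀)
  have hXfacts : ∀ χ ∈ X, χ ≠ trivIrr G →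
      (εX χ = 1 ∧ charDegree (χ : G → ℂ) = 1 + n * p) ∨
        (εX χ = -1 ∧ charDegree (χ : G → ℂ) = p - 1 ∧ (n + 1) * e = p - 1) := by
    intro χ hχ hne'
    exact harith _ _ (X4.two_le_deg hperf χ hne') (hdeg χ hχ) (hD.signX χ hχ) (hD.degX χ hχ)
  have hval : ∀ χ ∈ X, ∀ x ∈ (P : Subgroup G), x ≠ 1 → (χ : G → ℂ) x = (εX χ : ℂ) := by
    intro χ hχ x hx hx1
    have h1 := hD.valX χ hχ x hx hx1 1 (Subgroup.one_mem _) hone
    rwa [mul_one] at h1
  set A : Finset (IrrCharacter G) :=
    hXfin.toFinset.filter (fun χ => χ ≠ trivIrr G ∧ εX χ = 1) with hA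
  set B : Finset (IrrCharacter G) :=
    hXfin.toFinset.filter (fun χ => χ ≠ trivIrr G ∧ εX χ = -1) with hB
  have memA : ∀ χ, χ ∈ A ↔ χ ∈ X ∧ χ ≠ trivIrr G ∧ εX χ = 1 := by
    intro χ
    rw [hA, Finset.mem_filter, Set.Finite.mem_toFinset]
  have memB : ∀ χ, χ ∈ B ↔ χ ∈ X ∧ χ ≠ trivIrr G ∧ εX χ = -1 := by
    intro χ
    rw [hB, Finset.mem_filter, Set.Finite.mem_toFinset]
  have memY : ∀ χ, χ ∈ hYfin.toFinset ↔ χ ∈ Y := fun χ => Set.Finite.mem_toFinset hYfin
  have hAB : Disjoint A B := by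
    rw [Finset.disjoint_left]
    intro χ h1 h2
    have e1 := ((memA χ).mp h1).2.2
    have e2 := ((memB χ).mp h2).2.2
    rw [e1] at e2
    exact absurd e2 (by norm_num)
  have hXeq : hXfin.toFinset = insert (trivIrr G) (A ∪ B) := by
    ext χ
    rw [Set.Finite.mem_toFinset, Finset.mem_insert, Finset.mem_union, memA, memB]
    constructor
    · intro hχ
      by_cases hne' : χ = trivIrr G
      · left
        exact hne'
      · rcases hD.signX χ hχ with h | h
        · right; left
          exact ⟨hχ, hne', h⟩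
        · right; right
          exact ⟨hχ, hne', h⟩
    · rintro (h | h | h)
      · rw [h]
        exact htriv.1
      · exact h.1
      · exact h.1
  have htrivAB : trivIrr G ∉ A ∪ B := by
    rw [Finset.mem_union, memA, memB]
    rintro (h | h)
    · exact h.2.1 rfl
    · exact h.2.1 rfl
  refine ⟨charDegree (θ₀ : G → ℂ), A, B, hYfin.toFinset, ?_⟩
  refine { block := ?_, triv_nmem := ?_, disj := ?_, degA := ?_, valA := ?_, degB := ?_,
           valB := ?_, nB := ?_, cardAB := ?_, cardY := ?_, degY := ?_, x₀_ge := ?_,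
           regY := ?_, t1 := ?_, hε := hD.signY, modY := hD.degY θ₀ hθ₀ }
  · rw [hD.block]
    ext ψ
    simp only [Set.mem_union, Set.mem_ofPred_eq, memA, memB, memY]
    constructor
    · rintro (h | h)
      · by_cases hne' : ψ = trivIrr G
        · left
          exact hne'
        · rcases hD.signX ψ h with h' | h'
          · right; left
            exact ⟨h, hne', h'⟩
          · right; right; left
            exact ⟨h, hne', h'⟩
      · right; right; right
        exact h
    · rintro (h | h | h | h)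
      · left
        rw [h]
        exact htriv.1
      · left
        exact h.1
      · left
        exact h.1
      · right
        exact h
  · exact ⟨fun h => ((memA _).mp h).2.1 rfl, fun h => ((memB _).mp h).2.1 rfl,
      fun h => htrivY ((memY _).mp h)⟩
  · refine ⟨hAB, ?_, ?_⟩
    · rw [Finset.disjoint_left]
      intro χ h1 h2
      exact Set.disjoint_left.mp hD.disj ((memA χ).mp h1).1 ((memY χ).mp h2)
    · rw [Finset.disjoint_left]
      intro χ h1 h2
      exact Set.disjoint_left.mp hD.disj ((memB χ).mp h1).1 ((memY χ).mp h2)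
  · intro χ hχ
    obtain ⟨hX, hne', hε1⟩ := (memA χ).mp hχ
    rcases hXfacts χ hX hne' with h | h
    · rw [(Cfsg.Agent.Lib.Helper83.irr_degree χ.2).2, h.2]
    · rw [hε1] at h
      exact absurd h.1 (by norm_num)
  · intro χ hχ x hx hx1
    obtain ⟨hX, hne', hε1⟩ := (memA χ).mp hχ
    rw [hval χ hX x hx hx1, hε1, Int.cast_one]
  · intro χ hχ
    obtain ⟨hX, hne', hε1⟩ := (memB χ).mp hχ
    rcases hXfacts χ hX hne' with h | h
    · rw [hε1] at h
      exact absurd h.1 (by norm_num)
    · rw [(Cfsg.Agent.Lib.Helper83.irr_degree χ.2).2, h.2.1]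
  · intro χ hχ x hx hx1
    obtain ⟨hX, hne', hε1⟩ := (memB χ).mp hχ
    rw [hval χ hX x hx hx1, hε1, Int.cast_neg, Int.cast_one]
  · rintro ⟨χ, hχ⟩
    obtain ⟨hX, hne', hε1⟩ := (memB χ).mp hχ
    rcases hXfacts χ hX hne' with h | h
    · rw [hε1] at h
      exact absurd h.1 (by norm_num)
    · exact h.2.2
  · have h1 : hXfin.toFinset.card = e := by
      rw [← Set.ncard_eq_toFinset_card X hXfin, ← Nat.card_coe_set_eq, hD.cardX]
    rw [hXeq, Finset.card_insert_of_notMem htrivAB, Finset.card_union_of_disjoint hAB] at h1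
    omega
  · rw [← Set.ncard_eq_toFinset_card Y hYfin, ← Nat.card_coe_set_eq, hcardY]
  · intro θ hθ
    rw [hD.regY θ ((memY θ).mp hθ) θ₀ hθ₀ 1 hone, (Cfsg.Agent.Lib.Helper83.irr_degree θ₀.2).2]
  · exact X4.two_le_deg hperf θ₀ hθ₀ne
  · intro θ hθ θ' hθ' g hg
    exact hD.regY θ ((memY θ).mp hθ) θ' ((memY θ').mp hθ') g hg
  · intro θ hθ g hg
    rw [hD.t1 θ ((memY θ).mp hθ) g hg, finsum_mem_eq_finite_toFinset_sum _ hXfin, hXeq,
      Finset.sum_insert htrivAB, Finset.sum_union hAB, htriv.2]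
    have e1 : ∑ χ ∈ A, (εX χ : ℂ) * (χ : G → ℂ) g = ∑ χ ∈ A, (χ : G → ℂ) g := by
      apply Finset.sum_congr rfl
      intro χ hχ
      rw [((memA χ).mp hχ).2.2, Int.cast_one, one_mul]
    have e2 : ∑ χ ∈ B, (εX χ : ℂ) * (χ : G → ℂ) g = - ∑ χ ∈ B, (χ : G → ℂ) g := by
      rw [← Finset.sum_neg_distrib]
      apply Finset.sum_congr rfl
      intro χ hχ
      rw [((memB χ).mp hχ).2.2, Int.cast_neg, Int.cast_one, neg_one_mul]
    rw [e1, e2, Cfsg.Agent.Lib.Helper83.trivIrr_apply, Int.cast_one, one_mul]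
    ring

end Cfsg.Agent.Lib.Helper10.BR
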