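import Mathlib
import Cfsg.Agent.Lib.Helper22.TA0

set_option autoImplicit false

namespace Cfsg.Agent.Lib.Helper66.DO

open Cfsg.Agent.Lib.Helper22.TA

/-- a sum over a finite set on which a permutation acts freely with all orbits of size `p`
lies in a subgroup as soon as all orbit sums do -/
theorem sum_mem_of_free {α : Type*} [DecidableEq α] {M : Type*} [AddCommGroup M]
    (S : AddSubgroup M) (p : ℕ) (hp : 0 < p) (τ : Equiv.Perm α) (f : α → M) :
    ∀ (T : Finset α), (∀ q ∈ T, τ q ∈ T) → (∀ q ∈ T, (τ ^ p) q = q) →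
      (∀ q ∈ T, ∀ i : ℕ, 0 < i → i < p → (τ ^ i) q ≠ q) →
      (∀ q ∈ T, ∑ i ∈ Finset.range p, f ((τ ^ i) q) ∈ S) → ∑ q ∈ T, f q ∈ S := by
  intro T
  induction T using Finset.strongInduction with
  | H T ih =>
    intro hstab hper hfree hsum
    by_cases hT : T = ∅
    · subst hT; simp
    · obtain ⟨q0, hq0⟩ := Finset.nonempty_iff_ne_empty.mpr hT
      have hpowT : ∀ i : ℕ, ∀ q ∈ T, (τ ^ i) q ∈ T := by
        intro i
        induction i with
        | zero => intro q hq; simpa using hq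
        | succ i ih2 =>
          intro q hq
          rw [pow_succ', Equiv.Perm.mul_apply]
          exact hstab _ (ih2 q hq)
      set O := (Finset.range p).image (fun i => (τ ^ i) q0) with hO
      have hOT : O ⊆ T := by
        intro x hx
        rw [hO, Finset.mem_image] at hx
        obtain ⟨i, _, rfl⟩ := hx
        exact hpowT i q0 hq0
      have hlt : ∀ i j : ℕ, i < j → j < p → (τ ^ i) q0 ≠ (τ ^ j) q0 := by
        intro i j hij hj h
        have e : j = i + (j - i) := by omega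
        rw [e, pow_add, Equiv.Perm.mul_apply] at h
        have h2 := (τ ^ i).injective h
        exact hfree q0 hq0 (j - i) (by omega) (by omega) h2.symm
      have hinj : Set.InjOn (fun i => (τ ^ i) q0) (Finset.range p : Set ℕ) := by
        intro i hi j hj h
        have hi' : i < p := Finset.mem_range.mp hi
        have hj' : j < p := Finset.mem_range.mp hj
        by_contra hne
        rcases Nat.lt_or_gt_of_ne hne with h1 | h1
        · exact hlt i j h1 hj' h
        · exact hlt j i h1 hi' h.symm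
      have hsumO : ∑ q ∈ O, f q = ∑ i ∈ Finset.range p, f ((τ ^ i) q0) :=
        Finset.sum_image hinj
      have hq0O : q0 ∈ O := by
        rw [hO, Finset.mem_image]
        exact ⟨0, Finset.mem_range.mpr hp, by simp⟩
      have hT' : T \ O ⊂ T := by
        refine Finset.ssubset_iff_subset_ne.mpr ⟨Finset.sdiff_subset, fun h => ?_⟩
        have : q0 ∈ T \ O := by rw [h]; exact hq0
        exact (Finset.mem_sdiff.mp this).2 hq0O
      have hstab' : ∀ q ∈ T \ O, τ q ∈ T \ O := by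
        intro q hq
        obtain ⟨hqT, hqO⟩ := Finset.mem_sdiff.mp hq
        refine Finset.mem_sdiff.mpr ⟨hstab q hqT, fun hτ => hqO ?_⟩
        rw [hO, Finset.mem_image] at hτ ⊢
        obtain ⟨i, hi, hi2⟩ := hτ
        have hi' : i < p := Finset.mem_range.mp hi
        rcases Nat.eq_zero_or_pos i with h0 | h0
        · subst h0
          refine ⟨p - 1, Finset.mem_range.mpr (by omega), ?_⟩
          apply τ.injective
          have e : τ ((τ ^ (p - 1)) q0) = (τ ^ p) q0 := by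
            rw [← Equiv.Perm.mul_apply, ← pow_succ']
            congr 2
            omega
          rw [e, hper q0 hq0, ← hi2]
          simp
        · refine ⟨i - 1, Finset.mem_range.mpr (by omega), ?_⟩
          apply τ.injective
          have e : τ ((τ ^ (i - 1)) q0) = (τ ^ i) q0 := by
            rw [← Equiv.Perm.mul_apply, ← pow_succ']
            congr 2
            omega
          rw [e, hi2]
      have h3 := ih (T \ O) hT' hstab'
        (fun q hq => hper q (Finset.mem_sdiff.mp hq).1)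
        (fun q hq => hfree q (Finset.mem_sdiff.mp hq).1)
        (fun q hq => hsum q (Finset.mem_sdiff.mp hq).1)
      rw [← Finset.sum_sdiff hOT]
      exact S.add_mem h3 (hsumO ▸ hsum q0 hq0)

section basics

variable {G : Type*} [Group G] {X : Type*} [AddCommGroup X]

theorem rho_pow (ρ : G →* (X →ₗ[ℤ] X)) (z : G) (i : ℕ) : ρ (z ^ i) = (ρ z) ^ i := map_pow ρ z i

theorem sigma_pow_p (ρ : G →* (X →ₗ[ℤ] X)) (z : G) (p : ℕ) (hz : orderOf z = p) :
    (ρ z) ^ p = 1 := by
  rw [← map_pow, ← hz, pow_orderOf_eq_one, map_one]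

theorem pow_fix {σ : X →ₗ[ℤ] X} {v : X} (hv : v ∈ fixS σ) (i : ℕ) : (σ ^ i) v = v := by
  induction i with
  | zero => simp
  | succ i ih => rw [pow_succ, Module.End.mul_apply, mem_fixS.1 hv, ih]

/-- `σ ∘ N = N` -/
theorem sigma_nrm (p : ℕ) (σ : X →ₗ[ℤ] X) (hσ : σ ^ p = 1) (w : X) :
    σ (nrm p σ w) = nrm p σ w := by
  rw [nrm_apply, map_sum]
  have h1 : ∑ i ∈ Finset.range p, σ ((σ ^ i) w) = ∑ i ∈ Finset.range p, (σ ^ (i + 1)) w := by
    refine Finset.sum_congr rfl fun i _ => ?_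
    rw [pow_succ', Module.End.mul_apply]
  rw [h1]
  have h2 := Finset.sum_range_succ (fun i => (σ ^ i) w) p
  have h3 := Finset.sum_range_succ' (fun i => (σ ^ i) w) p
  rw [h2] at h3
  simp only [hσ, pow_zero, Module.End.one_apply] at h3
  exact (add_right_cancel h3).symm

/-- `N ∘ σ = N` -/
theorem nrm_sigma (p : ℕ) (σ : X →ₗ[ℤ] X) (hσ : σ ^ p = 1) (w : X) :
    nrm p σ (σ w) = nrm p σ w := by
  rw [nrm_apply, nrm_apply]
  have h1 : ∑ i ∈ Finset.range p, (σ ^ i) (σ w) = ∑ i ∈ Finset.range p, (σ ^ (i + 1)) w := by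
    refine Finset.sum_congr rfl fun i _ => ?_
    rw [pow_succ, Module.End.mul_apply]
  rw [h1]
  have h2 := Finset.sum_range_succ (fun i => (σ ^ i) w) p
  have h3 := Finset.sum_range_succ' (fun i => (σ ^ i) w) p
  rw [h2] at h3
  simp only [hσ, pow_zero, Module.End.one_apply] at h3
  exact (add_right_cancel h3).symm

theorem imN_le_fixS (p : ℕ) (σ : X →ₗ[ℤ] X) (hσ : σ ^ p = 1) : imN p σ ≤ fixS σ := by
  intro v hv
  obtain ⟨w, rfl⟩ := mem_imN.1 hv
  exact mem_fixS.2 (sigma_nrm p σ hσ w)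

theorem imD_le_kerN (p : ℕ) (σ : X →ₗ[ℤ] X) (hσ : σ ^ p = 1) : imD σ ≤ kerN p σ := by
  intro v hv
  obtain ⟨w, rfl⟩ := mem_imD.1 hv
  rw [mem_kerN, map_sub, nrm_sigma p σ hσ, sub_self]

end basics

section norm

variable {G : Type*} [Group G] [Fintype G] {X : Type*} [AddCommGroup X]

/-- reindexing the norm by a multiplier prime to `p` -/
theorem sum_pow_mul (p : ℕ) [hp : Fact p.Prime] (σ : X →ₗ[ℤ] X) (hσ : σ ^ p = 1) (j : ℕ)
    (hj : Nat.Coprime p j) :
    ∑ i ∈ Finset.range p, (σ ^ j) ^ i = ∑ i ∈ Finset.range p, σ ^ i := by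
  have hmaps : ∀ a ∈ Finset.range p, (j * a) % p ∈ Finset.range p := fun a _ =>
    Finset.mem_range.mpr (Nat.mod_lt _ hp.1.pos)
  have hinj : Set.InjOn (fun a => (j * a) % p) (Finset.range p : Set ℕ) := by
    intro a ha b hb h
    have ha' : a < p := Finset.mem_range.mp ha
    have hb' : b < p := Finset.mem_range.mp hb
    have h1 : j * a ≡ j * b [MOD p] := h
    have h2 : a ≡ b [MOD p] := Nat.ModEq.cancel_left_of_coprime hj h1
    exact Nat.ModEq.eq_of_lt_of_lt h2 ha' hb'
  have hsurj : Set.SurjOn (fun a => (j * a) % p) (Finset.range p : Set ℕ)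
      (Finset.range p : Set ℕ) :=
    Finset.surjOn_of_injOn_of_card_le _ hmaps hinj le_rfl
  refine Finset.sum_nbij (fun a => (j * a) % p) hmaps hinj hsurj ?_
  intro a _
  rw [← pow_mul]
  exact pow_eq_pow_mod _ hσ

theorem normalizer_ind (p : ℕ) [hp : Fact p.Prime] (z : G)
    (hz : orderOf z = p) (ρ : G →* (X →ₗ[ℤ] X)) (n : G)
    (hn : n ∈ Subgroup.normalizer ((Subgroup.zpowers z : Subgroup G) : Set G)) :
    (∃ g : QA p (ρ z) →ₗ[ℤ] QA p (ρ z), IndA p (ρ z) (ρ n) g) ∧
    (∃ g : QB p (ρ z) →ₗ[ℤ] QB p (ρ z), IndB p (ρ z) (ρ n) g) := by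
  have hσ : (ρ z) ^ p = 1 := sigma_pow_p ρ z p hz
  have h1 : n * z * n⁻¹ ∈ Subgroup.zpowers z :=
    (Subgroup.mem_normalizer_iff.mp hn z).mp (Subgroup.mem_zpowers z)
  have hn' : n⁻¹ ∈ Subgroup.normalizer ((Subgroup.zpowers z : Subgroup G) : Set G) :=
    Subgroup.inv_mem _ hn
  have h2 : n⁻¹ * z * n⁻¹⁻¹ ∈ Subgroup.zpowers z :=
    (Subgroup.mem_normalizer_iff.mp hn' z).mp (Subgroup.mem_zpowers z)
  rw [inv_inv] at h2
  obtain ⟨j', hj'⟩ := mem_powers_iff_mem_zpowers.mpr h1
  obtain ⟨j, hj⟩ := mem_powers_iff_mem_zpowers.mpr h2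
  have hj' : z ^ j' = n * z * n⁻¹ := hj'
  have hj : z ^ j = n⁻¹ * z * n := hj
  have hz1 : z ≠ 1 := by
    intro h
    rw [h, orderOf_one] at hz
    exact hp.1.one_lt.ne hz
  have hcop : Nat.Coprime p j' := by
    rw [Nat.Prime.coprime_iff_not_dvd hp.1]
    intro hdvd
    have h3 : z ^ j' = 1 := by
      rw [← hz] at hdvd
      exact orderOf_dvd_iff_pow_eq_one.mp hdvd
    rw [hj'] at h3
    apply hz1
    have h4 : z = n⁻¹ * (n * z * n⁻¹) * n := by group
    rw [h4, h3]; group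
  -- commutation relations
  have R1 : ρ z * ρ n = ρ n * (ρ z) ^ j := by
    rw [← rho_pow, ← map_mul, ← map_mul, hj]
    congr 1
    group
  have R2 : ρ n * ρ z = (ρ z) ^ j' * ρ n := by
    rw [← rho_pow, ← map_mul, ← map_mul, hj']
    congr 1
    group
  have R2' : ∀ i : ℕ, ρ n * (ρ z) ^ i = ((ρ z) ^ j') ^ i * ρ n := by
    intro i
    induction i with
    | zero => simp
    | succ i ih => rw [pow_succ, ← mul_assoc, ih, mul_assoc, R2, ← mul_assoc, ← pow_succ]
  have hNcomm : ρ n * nrm p (ρ z) = nrm p (ρ z) * ρ n := by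
    unfold nrm
    rw [Finset.mul_sum, Finset.sum_congr rfl (fun i _ => R2' i), ← Finset.sum_mul,
      sum_pow_mul p (ρ z) hσ j' hcop]
  have hNcomm' : ∀ w, ρ n (nrm p (ρ z) w) = nrm p (ρ z) (ρ n w) := by
    intro w
    have := congrArg (fun F : X →ₗ[ℤ] X => F w) hNcomm
    simpa [Module.End.mul_apply] using this
  have hfix : ∀ v ∈ fixS (ρ z), ρ n v ∈ fixS (ρ z) := by
    intro v hv
    rw [mem_fixS]
    have := congrArg (fun F : X →ₗ[ℤ] X => F v) R1
    simp only [Module.End.mul_apply] at this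
    rw [this, pow_fix hv]
  have hN : ∀ v ∈ imN p (ρ z), ρ n v ∈ imN p (ρ z) := by
    intro v hv
    obtain ⟨w, rfl⟩ := mem_imN.1 hv
    exact mem_imN.2 ⟨ρ n w, (hNcomm' w).symm⟩
  have hker : ∀ v ∈ kerN p (ρ z), ρ n v ∈ kerN p (ρ z) := by
    intro v hv
    rw [mem_kerN] at hv ⊢
    rw [← hNcomm', hv, map_zero]
  have hD : ∀ v ∈ imD (ρ z), ρ n v ∈ imD (ρ z) := by
    intro v hv
    obtain ⟨w, rfl⟩ := mem_imD.1 hv
    rw [map_sub]
    have := congrArg (fun F : X →ₗ[ℤ] X => F w) R2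
    simp only [Module.End.mul_apply] at this
    rw [this]
    exact pow_sub_mem_imD j' (ρ n w)
  constructor
  · refine ⟨Submodule.mapQ _ _ ((ρ n).restrict hfix) ?_, ?_⟩
    · intro ⟨v, hv⟩ hv'
      exact hN v hv'
    · intro v hv
      exact ⟨hfix v hv, rfl⟩
  · refine ⟨Submodule.mapQ _ _ ((ρ n).restrict hker) ?_, ?_⟩
    · intro ⟨v, hv⟩ hv'
      exact hD v hv'
    · intro v hv
      exact ⟨hker v hv, rfl⟩

end norm

section transfer

variable {G : Type*} [Group G] [Fintype G] {X : Type*} [AddCommGroup X]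

/-- conjugate of `Φ` by `ρ g` -/
def conjE (ρ : G →* (X →ₗ[ℤ] X)) (Φ : X →ₗ[ℤ] X) (g : G) : X →ₗ[ℤ] X := ρ g * Φ * ρ g⁻¹

theorem conjE_mul_mem (ρ : G →* (X →ₗ[ℤ] X)) (Φ : X →ₗ[ℤ] X) (z : G)
    (hΦ : Φ * ρ z = ρ z * Φ) (g y : G) (hy : y ∈ Subgroup.zpowers z) :
    conjE ρ Φ (g * y) = conjE ρ Φ g := by
  obtain ⟨k, hk⟩ := mem_powers_iff_mem_zpowers.mpr hy
  have hk : z ^ k = y := hk
  subst hk
  unfold conjE
  have hc : Commute Φ (ρ (z ^ k)) := by
    rw [rho_pow]
    exact (show Commute Φ (ρ z) from hΦ).pow_right k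
  have h1 : ρ (z ^ k) * Φ * ρ (z ^ k)⁻¹ = Φ := by
    rw [← hc.eq, mul_assoc, ← map_mul, mul_inv_cancel, map_one, mul_one]
  rw [mul_inv_rev, map_mul, map_mul]
  calc ρ g * ρ (z ^ k) * Φ * (ρ (z ^ k)⁻¹ * ρ g⁻¹)
      = ρ g * (ρ (z ^ k) * Φ * ρ (z ^ k)⁻¹) * ρ g⁻¹ := by simp only [mul_assoc]
    _ = ρ g * Φ * ρ g⁻¹ := by rw [h1]

/-- the conjugates of `Φ`, indexed by the cosets of `⟨z⟩` -/
def cq (ρ : G →* (X →ₗ[ℤ] X)) (Φ : X →ₗ[ℤ] X) (z : G) (hΦ : Φ * ρ z = ρ z * Φ) :
    G ⧸ Subgroup.zpowers z → (X →ₗ[ℤ] X) :=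
  Quotient.lift (s := QuotientGroup.leftRel (Subgroup.zpowers z)) (conjE ρ Φ) (by
    intro a b hab
    have h1 : a⁻¹ * b ∈ Subgroup.zpowers z := QuotientGroup.leftRel_apply.mp hab
    have h2 := conjE_mul_mem ρ Φ z hΦ a (a⁻¹ * b) h1
    rw [mul_inv_cancel_left] at h2
    exact h2.symm)

theorem cq_mk (ρ : G →* (X →ₗ[ℤ] X)) (Φ : X →ₗ[ℤ] X) (z : G) (hΦ : Φ * ρ z = ρ z * Φ) (g : G) :
    cq ρ Φ z hΦ (QuotientGroup.mk g) = conjE ρ Φ g := rfl

theorem out_mem_iff (z : G) (g : G) :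
    (QuotientGroup.mk g : G ⧸ Subgroup.zpowers z).out ∈
        Subgroup.normalizer ((Subgroup.zpowers z : Subgroup G) : Set G) ↔
      g ∈ Subgroup.normalizer ((Subgroup.zpowers z : Subgroup G) : Set G) := by
  obtain ⟨h, hh⟩ := QuotientGroup.mk_out_eq_mul (Subgroup.zpowers z) g
  rw [hh]
  have hN : (h : G) ∈ Subgroup.normalizer ((Subgroup.zpowers z : Subgroup G) : Set G) :=
    Subgroup.le_normalizer h.2
  constructor
  · intro h1
    have h2 := Subgroup.mul_mem _ h1 (Subgroup.inv_mem _ hN)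
    simpa using h2
  · intro h1
    exact Subgroup.mul_mem _ h1 hN

theorem toPerm_pow (z : G) (H : Subgroup G) (i : ℕ) (q : G ⧸ H) :
    ((MulAction.toPerm z : Equiv.Perm (G ⧸ H)) ^ i) q = (z ^ i) • q := by
  induction i with
  | zero => simp
  | succ i ih =>
    rw [pow_succ', Equiv.Perm.mul_apply, ih, MulAction.toPerm_apply, ← mul_smul, ← pow_succ']

theorem mem_normalizer_of_fix (p : ℕ) [hp : Fact p.Prime] (z : G) (hz : orderOf z = p) (g : G)
    (i : ℕ) (hi0 : 0 < i) (hip : i < p)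
    (h : (z ^ i) • (QuotientGroup.mk g : G ⧸ Subgroup.zpowers z) = QuotientGroup.mk g) :
    g ∈ Subgroup.normalizer ((Subgroup.zpowers z : Subgroup G) : Set G) := by
  rw [MulAction.Quotient.smul_mk, smul_eq_mul, QuotientGroup.eq] at h
  have hcop : Nat.Coprime i p :=
    ((Nat.Prime.coprime_iff_not_dvd hp.1).mpr (Nat.not_dvd_of_pos_of_lt hi0 hip)).symm
  obtain ⟨a, -, ha⟩ := Nat.exists_mul_mod_eq_one_of_coprime hcop hp.1.one_lt
  have hzp : z ^ p = 1 := by rw [← hz]; exact pow_orderOf_eq_one z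
  have hza : (z ^ i) ^ a = z := by rw [← pow_mul, pow_eq_pow_mod _ hzp, ha, pow_one]
  have h1 : g⁻¹ * z ^ i * g ∈ Subgroup.zpowers z := by
    have h0 := Subgroup.inv_mem _ h
    have e : ((z ^ i * g)⁻¹ * g)⁻¹ = g⁻¹ * z ^ i * g := by group
    rwa [e] at h0
  have h2 : g⁻¹ * z * g ∈ Subgroup.zpowers z := by
    have h0 := Subgroup.pow_mem _ h1 a
    have e : (g⁻¹ * z ^ i * g) ^ a = g⁻¹ * (z ^ i) ^ a * g := by
      have h00 := conj_pow (a := g⁻¹) (b := z ^ i) (i := a)
      simpa using h00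
    rwa [e, hza] at h0
  have h3 : g⁻¹ ∈ Subgroup.normalizer ((Subgroup.zpowers z : Subgroup G) : Set G) := by
    apply Subgroup.mem_normalizer_fintype
    intro y hy
    obtain ⟨k, hk⟩ := mem_powers_iff_mem_zpowers.mpr hy
    have hk : z ^ k = y := hk
    subst hk
    have e : g⁻¹ * z ^ k * g⁻¹⁻¹ = (g⁻¹ * z * g) ^ k := by
      have h00 := conj_pow (a := g⁻¹) (b := z) (i := k)
      simpa using h00.symm
    rw [e]
    exact Subgroup.pow_mem _ h2 k
  have h4 := Subgroup.inv_mem _ h3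
  rwa [inv_inv] at h4

theorem card_filter_normalizer (z : G) [Fintype (G ⧸ Subgroup.zpowers z)]
    [DecidablePred fun q : G ⧸ Subgroup.zpowers z =>
      q.out ∈ Subgroup.normalizer ((Subgroup.zpowers z : Subgroup G) : Set G)] :
    (Finset.univ.filter (fun q : G ⧸ Subgroup.zpowers z =>
      q.out ∈ Subgroup.normalizer ((Subgroup.zpowers z : Subgroup G) : Set G))).card =
      (Subgroup.zpowers z).relIndex
        (Subgroup.normalizer ((Subgroup.zpowers z : Subgroup G) : Set G)) := by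
  let ψ : (Subgroup.normalizer ((Subgroup.zpowers z : Subgroup G) : Set G)) ⧸
        (Subgroup.zpowers z).subgroupOf
          (Subgroup.normalizer ((Subgroup.zpowers z : Subgroup G) : Set G)) →
      {q : G ⧸ Subgroup.zpowers z //
        q.out ∈ Subgroup.normalizer ((Subgroup.zpowers z : Subgroup G) : Set G)} :=
    Quotient.lift (s := QuotientGroup.leftRel ((Subgroup.zpowers z).subgroupOf
        (Subgroup.normalizer ((Subgroup.zpowers z : Subgroup G) : Set G))))
      (fun n => ⟨QuotientGroup.mk (n : G), (out_mem_iff z n).mpr n.2⟩) (by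
        intro a b hab
        apply Subtype.ext
        show (QuotientGroup.mk (a : G) : G ⧸ Subgroup.zpowers z) = QuotientGroup.mk (b : G)
        rw [QuotientGroup.eq]
        exact Subgroup.mem_subgroupOf.mp (QuotientGroup.leftRel_apply.mp hab))
  have hψ : Function.Bijective ψ := by
    constructor
    · intro x y
      induction x using QuotientGroup.induction_on with
      | H a =>
        induction y using QuotientGroup.induction_on with
        | H b =>
          intro h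
          have h1 : (QuotientGroup.mk (a : G) : G ⧸ Subgroup.zpowers z) =
              QuotientGroup.mk (b : G) := congrArg Subtype.val h
          rw [QuotientGroup.eq] at h1 ⊢
          exact Subgroup.mem_subgroupOf.mpr h1
    · rintro ⟨q, hq⟩
      refine ⟨QuotientGroup.mk ⟨q.out, hq⟩, ?_⟩
      apply Subtype.ext
      show (QuotientGroup.mk q.out : G ⧸ Subgroup.zpowers z) = q
      exact QuotientGroup.out_eq' q
  have h1 := Nat.card_congr (Equiv.ofBijective ψ hψ)
  rw [Subgroup.relIndex, Subgroup.index, h1, Nat.card_eq_fintype_card, Fintype.card_subtype]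

/-- conjugates of `Φ` by elements of the normalizer induce the same map on `QA` -/
theorem indA_conj (p : ℕ) [hp : Fact p.Prime] (z : G) (hz : orderOf z = p)
    (ρ : G →* (X →ₗ[ℤ] X)) (Φ : X →ₗ[ℤ] X)
    (fA : QA p (ρ z) →ₗ[ℤ] QA p (ρ z)) (hA : IndA p (ρ z) Φ fA)
    (hAN : ∀ n ∈ Subgroup.normalizer ((Subgroup.zpowers z : Subgroup G) : Set G),
      ∀ g : QA p (ρ z) →ₗ[ℤ] QA p (ρ z), IndA p (ρ z) (ρ n) g → g ∘ₗ fA = fA ∘ₗ g)
    (n : G) (hn : n ∈ Subgroup.normalizer ((Subgroup.zpowers z : Subgroup G) : Set G)) :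
    IndA p (ρ z) (conjE ρ Φ n) fA := by
  obtain ⟨g1, hg1⟩ := (normalizer_ind p z hz ρ n hn).1
  obtain ⟨g2, hg2⟩ := (normalizer_ind p z hz ρ n⁻¹ (Subgroup.inv_mem _ hn)).1
  have h12 : g1 * g2 = 1 := by
    have h0 := hg1.mul hg2
    rw [← map_mul, mul_inv_cancel, map_one] at h0
    exact IndA.unique h0 IndA.one
  have hcomm : g1 * fA = fA * g1 := hAN n hn g1 hg1
  have h3 := (hg1.mul hA).mul hg2
  have e : g1 * fA * g2 = fA := by rw [hcomm, mul_assoc, h12, mul_one]
  rw [e] at h3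
  exact h3

/-- conjugates of `Φ` by elements of the normalizer induce the same map on `QB` -/
theorem indB_conj (p : ℕ) [hp : Fact p.Prime] (z : G) (hz : orderOf z = p)
    (ρ : G →* (X →ₗ[ℤ] X)) (Φ : X →ₗ[ℤ] X)
    (fB : QB p (ρ z) →ₗ[ℤ] QB p (ρ z)) (hB : IndB p (ρ z) Φ fB)
    (hBN : ∀ n ∈ Subgroup.normalizer ((Subgroup.zpowers z : Subgroup G) : Set G),
      ∀ g : QB p (ρ z) →ₗ[ℤ] QB p (ρ z), IndB p (ρ z) (ρ n) g → g ∘ₗ fB = fB ∘ₗ g)
    (n : G) (hn : n ∈ Subgroup.normalizer ((Subgroup.zpowers z : Subgroup G) : Set G)) :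
    IndB p (ρ z) (conjE ρ Φ n) fB := by
  obtain ⟨g1, hg1⟩ := (normalizer_ind p z hz ρ n hn).2
  obtain ⟨g2, hg2⟩ := (normalizer_ind p z hz ρ n⁻¹ (Subgroup.inv_mem _ hn)).2
  have h12 : g1 * g2 = 1 := by
    have h0 := hg1.mul hg2
    rw [← map_mul, mul_inv_cancel, map_one] at h0
    exact IndB.unique h0 IndB.one
  have hcomm : g1 * fB = fB * g1 := hBN n hn g1 hg1
  have h3 := (hg1.mul hB).mul hg2
  have e : g1 * fB * g2 = fB := by rw [hcomm, mul_assoc, h12, mul_one]
  rw [e] at h3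
  exact h3

theorem conjE_apply (ρ : G →* (X →ₗ[ℤ] X)) (Φ : X →ₗ[ℤ] X) (g : G) (v : X) :
    conjE ρ Φ g v = ρ g (Φ (ρ g⁻¹ v)) := rfl

theorem conjE_mul_apply (ρ : G →* (X →ₗ[ℤ] X)) (Φ : X →ₗ[ℤ] X) (y g : G) (v : X) :
    conjE ρ Φ (y * g) v = ρ y (conjE ρ Φ g (ρ y⁻¹ v)) := by
  rw [conjE_apply, conjE_apply, mul_inv_rev, map_mul, map_mul]
  rfl

theorem transfer (p : ℕ) [hp : Fact p.Prime] (z : G)
    (hz : orderOf z = p) (ρ : G →* (X →ₗ[ℤ] X))
    (Φ : X →ₗ[ℤ] X) (hΦ : Φ ∘ₗ ρ z = ρ z ∘ₗ Φ)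
    (fA : QA p (ρ z) →ₗ[ℤ] QA p (ρ z)) (fB : QB p (ρ z) →ₗ[ℤ] QB p (ρ z))
    (hA : IndA p (ρ z) Φ fA) (hB : IndB p (ρ z) Φ fB)
    (hAN : ∀ n ∈ Subgroup.normalizer ((Subgroup.zpowers z : Subgroup G) : Set G),
      ∀ g : QA p (ρ z) →ₗ[ℤ] QA p (ρ z), IndA p (ρ z) (ρ n) g → g ∘ₗ fA = fA ∘ₗ g)
    (hBN : ∀ n ∈ Subgroup.normalizer ((Subgroup.zpowers z : Subgroup G) : Set G),
      ∀ g : QB p (ρ z) →ₗ[ℤ] QB p (ρ z), IndB p (ρ z) (ρ n) g → g ∘ₗ fB = fB ∘ₗ g) :
    ∃ lam : X →ₗ[ℤ] X, (∀ g : G, lam ∘ₗ ρ g = ρ g ∘ₗ lam) ∧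
      IndA p (ρ z) lam
        ((((Subgroup.zpowers z).relIndex
          (Subgroup.normalizer ((Subgroup.zpowers z : Subgroup G) : Set G)) : ℕ) : ℤ) • fA) ∧
      IndB p (ρ z) lam
        ((((Subgroup.zpowers z).relIndex
          (Subgroup.normalizer ((Subgroup.zpowers z : Subgroup G) : Set G)) : ℕ) : ℤ) • fB) := by
  classical
  have hσ : (ρ z) ^ p = 1 := sigma_pow_p ρ z p hz
  have hzp : z ^ p = 1 := by rw [← hz]; exact pow_orderOf_eq_one z
  have hΦ' : Φ * ρ z = ρ z * Φ := hΦ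
  have : Fintype (G ⧸ Subgroup.zpowers z) := Fintype.ofFinite _
  have hzN : z ∈ Subgroup.normalizer ((Subgroup.zpowers z : Subgroup G) : Set G) :=
    Subgroup.le_normalizer (Subgroup.mem_zpowers z)
  -- notation
  have hc : ∀ g : G, cq ρ Φ z hΦ' (QuotientGroup.mk g) = conjE ρ Φ g := fun g => rfl
  have hsplit : ∑ q : G ⧸ Subgroup.zpowers z, cq ρ Φ z hΦ' q =
      ∑ q ∈ Finset.univ.filter (fun q : G ⧸ Subgroup.zpowers z =>
        q.out ∈ Subgroup.normalizer ((Subgroup.zpowers z : Subgroup G) : Set G)), cq ρ Φ z hΦ' q +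
      ∑ q ∈ Finset.univ.filter (fun q : G ⧸ Subgroup.zpowers z =>
        ¬ q.out ∈ Subgroup.normalizer ((Subgroup.zpowers z : Subgroup G) : Set G)),
          cq ρ Φ z hΦ' q :=
    (Finset.sum_filter_add_sum_filter_not _ _ _).symm
  -- properties of the bad part
  have hstab : ∀ (y : G), y ∈ Subgroup.zpowers z →
      ∀ q ∈ Finset.univ.filter (fun q : G ⧸ Subgroup.zpowers z =>
        ¬ q.out ∈ Subgroup.normalizer ((Subgroup.zpowers z : Subgroup G) : Set G)),
      (MulAction.toPerm y : Equiv.Perm (G ⧸ Subgroup.zpowers z)) q ∈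
        Finset.univ.filter (fun q : G ⧸ Subgroup.zpowers z =>
        ¬ q.out ∈ Subgroup.normalizer ((Subgroup.zpowers z : Subgroup G) : Set G)) := by
    intro y hy q hq
    rw [Finset.mem_filter] at hq ⊢
    refine ⟨Finset.mem_univ _, fun h => hq.2 ?_⟩
    have hyN : y ∈ Subgroup.normalizer ((Subgroup.zpowers z : Subgroup G) : Set G) :=
      Subgroup.le_normalizer hy
    rw [MulAction.toPerm_apply, ← QuotientGroup.out_eq' q, MulAction.Quotient.smul_mk,
      out_mem_iff, smul_eq_mul] at h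
    have h2 := Subgroup.mul_mem _ (Subgroup.inv_mem _ hyN) h
    rw [inv_mul_cancel_left] at h2
    exact h2
  have hfreez : ∀ q ∈ Finset.univ.filter (fun q : G ⧸ Subgroup.zpowers z =>
        ¬ q.out ∈ Subgroup.normalizer ((Subgroup.zpowers z : Subgroup G) : Set G)),
      ∀ i : ℕ, 0 < i → i < p → (z ^ i) • q ≠ q := by
    intro q hq i hi0 hip h
    rw [Finset.mem_filter] at hq
    apply hq.2
    have h' : (z ^ i) • (QuotientGroup.mk q.out : G ⧸ Subgroup.zpowers z) =
        QuotientGroup.mk q.out := by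
      rw [QuotientGroup.out_eq']; exact h
    exact mem_normalizer_of_fix p z hz q.out i hi0 hip h'
  refine ⟨∑ q : G ⧸ Subgroup.zpowers z, cq ρ Φ z hΦ' q, ?_, ?_, ?_⟩
  · intro h
    show (∑ q : G ⧸ Subgroup.zpowers z, cq ρ Φ z hΦ' q) * ρ h =
      ρ h * ∑ q : G ⧸ Subgroup.zpowers z, cq ρ Φ z hΦ' q
    have key : ∀ q : G ⧸ Subgroup.zpowers z,
        ρ h * cq ρ Φ z hΦ' q = cq ρ Φ z hΦ' (h • q) * ρ h := by
      intro q
      induction q using QuotientGroup.induction_on with
      | H g =>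
        rw [MulAction.Quotient.smul_mk, hc, hc, smul_eq_mul]
        unfold conjE
        rw [mul_inv_rev, map_mul, map_mul]
        have e : ρ h⁻¹ * ρ h = 1 := by rw [← map_mul, inv_mul_cancel, map_one]
        simp only [mul_assoc]
        rw [e, mul_one]
    rw [Finset.mul_sum, Finset.sum_mul, Finset.sum_congr rfl (fun q _ => key q)]
    exact (Equiv.sum_comp (MulAction.toPerm h)
      (fun q : G ⧸ Subgroup.zpowers z => cq ρ Φ z hΦ' q * ρ h)).symm
  · rw [hsplit]
    have h1 : IndA p (ρ z)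
        (∑ q ∈ Finset.univ.filter (fun q : G ⧸ Subgroup.zpowers z =>
          q.out ∈ Subgroup.normalizer ((Subgroup.zpowers z : Subgroup G) : Set G)),
          cq ρ Φ z hΦ' q)
        ((((Subgroup.zpowers z).relIndex
          (Subgroup.normalizer ((Subgroup.zpowers z : Subgroup G) : Set G)) : ℕ) : ℤ) • fA) := by
      have h0 := IndA.sum (p := p) (σ := ρ z)
        (Finset.univ.filter (fun q : G ⧸ Subgroup.zpowers z =>
          q.out ∈ Subgroup.normalizer ((Subgroup.zpowers z : Subgroup G) : Set G)))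
        (φ := fun q => cq ρ Φ z hΦ' q) (f := fun _ => fA) (by
          intro q hq
          rw [Finset.mem_filter] at hq
          have e : cq ρ Φ z hΦ' q = conjE ρ Φ q.out := by
            conv_lhs => rw [← QuotientGroup.out_eq' q]
            exact hc _
          rw [e]
          exact indA_conj p z hz ρ Φ fA hA hAN q.out hq.2)
      rw [Finset.sum_const, card_filter_normalizer z] at h0
      rw [natCast_zsmul]
      exact h0
    have h2 : IndA p (ρ z)
        (∑ q ∈ Finset.univ.filter (fun q : G ⧸ Subgroup.zpowers z =>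
          ¬ q.out ∈ Subgroup.normalizer ((Subgroup.zpowers z : Subgroup G) : Set G)),
          cq ρ Φ z hΦ' q) 0 := by
      apply IndA.of_mapsTo _ (imN_le_fixS p (ρ z) hσ)
      intro v hv
      rw [LinearMap.sum_apply]
      have h3 := sum_mem_of_free (imN p (ρ z)).toAddSubgroup p hp.1.pos
        (MulAction.toPerm z : Equiv.Perm (G ⧸ Subgroup.zpowers z))
        (fun q => cq ρ Φ z hΦ' q v)
        (Finset.univ.filter (fun q : G ⧸ Subgroup.zpowers z =>
          ¬ q.out ∈ Subgroup.normalizer ((Subgroup.zpowers z : Subgroup G) : Set G)))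
        (hstab z (Subgroup.mem_zpowers z))
        (fun q _ => by rw [toPerm_pow, hzp, one_smul])
        (fun q hq i hi0 hip => by rw [toPerm_pow]; exact hfreez q hq i hi0 hip)
        (by
          intro q _
          show ∑ i ∈ Finset.range p, cq ρ Φ z hΦ'
            (((MulAction.toPerm z : Equiv.Perm (G ⧸ Subgroup.zpowers z)) ^ i) q) v ∈ imN p (ρ z)
          have e : ∀ i ∈ Finset.range p, cq ρ Φ z hΦ'
              (((MulAction.toPerm z : Equiv.Perm (G ⧸ Subgroup.zpowers z)) ^ i) q) v =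
              ((ρ z) ^ i) (conjE ρ Φ q.out v) := by
            intro i _
            rw [toPerm_pow]
            conv_lhs => rw [← QuotientGroup.out_eq' q]
            rw [MulAction.Quotient.smul_mk, hc, smul_eq_mul, conjE_mul_apply, rho_pow]
            congr 2
            have e1 : ρ (z ^ i) v = v := by rw [rho_pow]; exact pow_fix hv i
            calc ρ (z ^ i)⁻¹ v = ρ (z ^ i)⁻¹ (ρ (z ^ i) v) := by rw [e1]
              _ = (ρ (z ^ i)⁻¹ * ρ (z ^ i)) v := rfl
              _ = v := by rw [← map_mul, inv_mul_cancel, map_one]; rfl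
          rw [Finset.sum_congr rfl e, ← nrm_apply]
          exact mem_imN.2 ⟨_, rfl⟩)
      exact h3
    have h4 := h1.add h2
    rwa [add_zero] at h4
  · rw [hsplit]
    have h1 : IndB p (ρ z)
        (∑ q ∈ Finset.univ.filter (fun q : G ⧸ Subgroup.zpowers z =>
          q.out ∈ Subgroup.normalizer ((Subgroup.zpowers z : Subgroup G) : Set G)),
          cq ρ Φ z hΦ' q)
        ((((Subgroup.zpowers z).relIndex
          (Subgroup.normalizer ((Subgroup.zpowers z : Subgroup G) : Set G)) : ℕ) : ℤ) • fB) := by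
      have h0 := IndB.sum (p := p) (σ := ρ z)
        (Finset.univ.filter (fun q : G ⧸ Subgroup.zpowers z =>
          q.out ∈ Subgroup.normalizer ((Subgroup.zpowers z : Subgroup G) : Set G)))
        (φ := fun q => cq ρ Φ z hΦ' q) (f := fun _ => fB) (by
          intro q hq
          rw [Finset.mem_filter] at hq
          have e : cq ρ Φ z hΦ' q = conjE ρ Φ q.out := by
            conv_lhs => rw [← QuotientGroup.out_eq' q]
            exact hc _
          rw [e]
          exact indB_conj p z hz ρ Φ fB hB hBN q.out hq.2)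
      rw [Finset.sum_const, card_filter_normalizer z] at h0
      rw [natCast_zsmul]
      exact h0
    have h2 : IndB p (ρ z)
        (∑ q ∈ Finset.univ.filter (fun q : G ⧸ Subgroup.zpowers z =>
          ¬ q.out ∈ Subgroup.normalizer ((Subgroup.zpowers z : Subgroup G) : Set G)),
          cq ρ Φ z hΦ' q) 0 := by
      apply IndB.of_mapsTo _ (imD_le_kerN p (ρ z) hσ)
      intro v hv
      rw [LinearMap.sum_apply]
      have hzinv : (z⁻¹) ^ p = 1 := by rw [inv_pow, hzp, inv_one]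
      have h3 := sum_mem_of_free (imD (ρ z)).toAddSubgroup p hp.1.pos
        (MulAction.toPerm z⁻¹ : Equiv.Perm (G ⧸ Subgroup.zpowers z))
        (fun q => cq ρ Φ z hΦ' q v)
        (Finset.univ.filter (fun q : G ⧸ Subgroup.zpowers z =>
          ¬ q.out ∈ Subgroup.normalizer ((Subgroup.zpowers z : Subgroup G) : Set G)))
        (hstab z⁻¹ (Subgroup.inv_mem _ (Subgroup.mem_zpowers z)))
        (fun q _ => by rw [toPerm_pow, hzinv, one_smul])
        (fun q hq i hi0 hip => by
          rw [toPerm_pow]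
          intro h
          apply hfreez q hq i hi0 hip
          have h5 := congrArg (fun r => (z ^ i) • r) h
          simp only [← mul_smul] at h5
          rw [inv_pow, mul_inv_cancel, one_smul] at h5
          exact h5.symm)
        (by
          intro q _
          show ∑ i ∈ Finset.range p, cq ρ Φ z hΦ'
            (((MulAction.toPerm z⁻¹ : Equiv.Perm (G ⧸ Subgroup.zpowers z)) ^ i) q) v ∈ imD (ρ z)
          have e : ∀ i ∈ Finset.range p, cq ρ Φ z hΦ'
              (((MulAction.toPerm z⁻¹ : Equiv.Perm (G ⧸ Subgroup.zpowers z)) ^ i) q) v =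
              (ρ ((z⁻¹) ^ i) (conjE ρ Φ q.out (((ρ z) ^ i) v)) -
                conjE ρ Φ q.out (((ρ z) ^ i) v)) + conjE ρ Φ q.out (((ρ z) ^ i) v) := by
            intro i _
            rw [toPerm_pow, sub_add_cancel]
            conv_lhs => rw [← QuotientGroup.out_eq' q]
            rw [MulAction.Quotient.smul_mk, hc, smul_eq_mul, conjE_mul_apply]
            congr 3
            rw [inv_pow, inv_inv, rho_pow]
          rw [Finset.sum_congr rfl e, Finset.sum_add_distrib]
          refine (imD (ρ z)).add_mem ((imD (ρ z)).sum_mem fun i _ => ?_) ?_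
          · -- ρ(z⁻¹^i) w - w ∈ imD
            set w := conjE ρ Φ q.out (((ρ z) ^ i) v) with hw
            have e2 : ((ρ z) ^ i) (ρ ((z⁻¹) ^ i) w) = w := by
              rw [← rho_pow]
              show (ρ (z ^ i) * ρ ((z⁻¹) ^ i)) w = w
              rw [← map_mul, inv_pow, mul_inv_cancel, map_one]; rfl
            have e3 := pow_sub_mem_imD (σ := ρ z) i (ρ ((z⁻¹) ^ i) w)
            rw [e2] at e3
            have e4 := (imD (ρ z)).neg_mem e3
            rwa [neg_sub] at e4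
          · have e5 : ∑ i ∈ Finset.range p, conjE ρ Φ q.out (((ρ z) ^ i) v) =
                conjE ρ Φ q.out (nrm p (ρ z) v) := by
              rw [nrm_apply, map_sum]
            rw [e5, mem_kerN.1 hv, map_zero]
            exact (imD (ρ z)).zero_mem)
      exact h3
    have h4 := h1.add h2
    rwa [add_zero] at h4

end transfer

end Cfsg.Agent.Lib.Helper66.DO
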