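import Cfsg.Agent.Lib.Helper15.BG13CDefs
import Cfsg.Agent.Lib.Helper32.Uniq6
import Cfsg.Agent.Lib.Helper32.BG10P1
import Cfsg.Agent.S1406

/-! Piece C-CA for S1428 (B&G 13.3(b)): if `C_H(A)` lies in a second maximal subgroup,
every `p`-subgroup of `C_{H_β}(A)` is cyclic. -/

set_option autoImplicit false

open Cfsg Cfsg.Agent.Lib.Helper32 Cfsg.Agent.Lib.Helper32.BG10 Cfsg.Agent.Lib.Helper3.BG12

namespace Cfsg.Agent.Lib.Helper15.BG13C

universe u

variable {G : Type u} [Group G] [Finite G]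

theorem ca : CAStmt G := by
  intro hG H L A hH hL hLH hAH hAα hCL p _ T hT hTp
  have hrk : RankLE 1 ↥(alphaCore H ⊓ Subgroup.centralizer (A : Set G)) := by
    by_contra hr
    obtain ⟨M, hM, huniq⟩ := Cfsg.Agent.S1406.result hG H hH A hAH hAα hr
    have h1 := huniq H ⟨hH, inf_le_left⟩
    have h2 := huniq L ⟨hL, hCL⟩
    exact hLH (h2.trans h1.symm)
  have hcore : piCoreOf (beta H) H ≤ alphaCore H := by
    unfold piCoreOf alphaCore
    apply Subgroup.map_mono
    unfold piCore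
    apply sSup_le_sSup
    intro N hN
    exact ⟨hN.1, fun ℓ hℓ hd => (hN.2 ℓ hℓ hd).1⟩
  have hTle : T ≤ alphaCore H ⊓ Subgroup.centralizer (A : Set G) :=
    hT.trans (inf_le_inf_right _ hcore)
  by_cases hp2 : p = 2
  · subst hp2
    obtain ⟨k, hk⟩ := IsPGroup.iff_card.mp hTp
    have hodd : Odd (Nat.card T) := hG.1.of_dvd_nat (Subgroup.card_subgroup_dvd_card T)
    have hk0 : k = 0 := by
      by_contra hk0
      rw [hk] at hodd
      exact (Nat.not_even_iff_odd.mpr hodd) (Nat.even_pow.mpr ⟨even_two, hk0⟩)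
    rw [hk0, pow_zero] at hk
    have : Subsingleton T := (Nat.card_eq_one_iff_unique.mp hk).1
    infer_instance
  · by_contra hnc
    refine not_rankLE_one_of_not_cyclic hp2 hTp hnc ?_
    intro q hq
    exact prankLE_mono hTle (hrk q hq)

end Cfsg.Agent.Lib.Helper15.BG13C
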