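import Mathlib
import Cfsg.Agent.Lib.Helper10.BWDefs
import Cfsg.Agent.Lib.Helper10.BR0
import Cfsg.Agent.Lib.Helper87.BRN2

/-!
# S0997 case B2 (project BW), piece BW-OUTER (helper66, for helper10)

For `y ∈ N(P) \ P` the coset `y P` is one `P`-conjugacy class, so
`Σ_{u ∈ P} ψ (y u) = p ψ y` for class functions `ψ` (adapted from `BR.psum_outer`,
`Lib/Helper87/BRN1.lean`, from `Tab` to `VTab`).
-/

set_option autoImplicit false
set_option linter.style.haveILetI false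

namespace Cfsg.Agent.Lib.Helper10.BW

open Cfsg
open Cfsg.Agent.Lib.Helper83 (trivIrr)
open Cfsg.Agent.Lib.Helper10.BR (psum DOut)
open scoped ComplexConjugate

universe u

variable {G : Type u} [Group G] [Fintype G]

variable {p e : ℕ} {P : Subgroup G} {θ θ' : IrrCharacter G}
  {Xp Xm D : Finset (IrrCharacter G)}

/-- BW-OUTER -/
theorem psum_outer (h : VTab G p e P θ θ' Xp Xm D) (ψ : G → ℂ) (hψ : IsClassFunction G ψ)
    (y : G) (hy : y ∈ Subgroup.normalizer (P : Set G)) (hyP : y ∉ P) :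
    psum P ψ y = (p : ℂ) * ψ y := by
  classical
  have hp := h.hp
  have hfin : Fintype P := Fintype.ofFinite P
  rw [Cfsg.Agent.Lib.Helper10.BR.psum_eq_sum]
  -- the map `w ↦ y⁻¹ w⁻¹ y w`
  have hmem : ∀ w : P, y⁻¹ * (w : G)⁻¹ * y * (w : G) ∈ P := by
    intro w
    have h1 : y⁻¹ * (w : G)⁻¹ * y ∈ P := by
      have h2 := (Subgroup.mem_normalizer_iff''.mp hy ((w : G)⁻¹)).mp (P.inv_mem w.2)
      exact h2
    exact P.mul_mem h1 w.2
  have hinj : Function.Injective (fun w : P => (⟨y⁻¹ * (w : G)⁻¹ * y * (w : G), hmem w⟩ : P)) := by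
    intro w1 w2 h12
    have h3 : y⁻¹ * (w1 : G)⁻¹ * y * (w1 : G) = y⁻¹ * (w2 : G)⁻¹ * y * (w2 : G) :=
      congrArg Subtype.val h12
    by_contra hne
    have hu : (w1 : G) * (w2 : G)⁻¹ ∈ P := P.mul_mem w1.2 (P.inv_mem w2.2)
    have hu1 : (w1 : G) * (w2 : G)⁻¹ ≠ 1 := by
      intro h4
      apply hne
      apply Subtype.ext
      exact mul_inv_eq_one.mp h4
    have hc : y * ((w1 : G) * (w2 : G)⁻¹) = (w1 : G) * (w2 : G)⁻¹ * y := by
      have h5 : (w1 : G)⁻¹ * y * (w1 : G) = (w2 : G)⁻¹ * y * (w2 : G) := by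
        have h6 := congrArg (fun g => y * g) h3
        simp only [mul_assoc, mul_inv_cancel_left] at h6
        simpa only [mul_assoc] using h6
      have h7 : y * (w1 : G) = (w1 : G) * ((w2 : G)⁻¹ * y * (w2 : G)) := by
        rw [← h5]; group
      calc y * ((w1 : G) * (w2 : G)⁻¹) = y * (w1 : G) * (w2 : G)⁻¹ := by group
        _ = (w1 : G) * ((w2 : G)⁻¹ * y * (w2 : G)) * (w2 : G)⁻¹ := by rw [h7]
        _ = (w1 : G) * (w2 : G)⁻¹ * y := by group
    exact hyP (Cfsg.Agent.Lib.Helper87.BRN.mem_of_comm hp P h.cardP h.cent _ y hu hu1 hc)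
  have hbij : Function.Bijective
      (fun w : P => (⟨y⁻¹ * (w : G)⁻¹ * y * (w : G), hmem w⟩ : P)) :=
    ⟨hinj, Finite.surjective_of_injective hinj⟩
  rw [← Function.Bijective.sum_comp hbij (fun u : P => ψ (y * (u : G)))]
  have hterm : ∀ w : P, ψ (y * ((⟨y⁻¹ * (w : G)⁻¹ * y * (w : G), hmem w⟩ : P) : G)) = ψ y := by
    intro w
    have h8 : y * (y⁻¹ * (w : G)⁻¹ * y * (w : G)) = (w : G)⁻¹ * y * ((w : G)⁻¹)⁻¹ := by group
    change ψ (y * (y⁻¹ * (w : G)⁻¹ * y * (w : G))) = ψ y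
    rw [h8]
    exact hψ y ((w : G)⁻¹)
  rw [Finset.sum_congr rfl (fun w _ => hterm w)]
  rw [Finset.sum_const, Finset.card_univ, nsmul_eq_mul]
  have hcard : Fintype.card P = p := by
    rw [← Nat.card_eq_fintype_card]; exact h.cardP
  rw [hcard]

end Cfsg.Agent.Lib.Helper10.BW
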