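import Mathlib
import Cfsg.Agent.Lib.Helper10.BWDefs
import Cfsg.Agent.Lib.Helper10.BR0
import Cfsg.Agent.Lib.Helper73.BRI1
import Cfsg.Agent.Lib.Helper4.BTP2
import Cfsg.Agent.Lib.Helper90.BRX1
import Cfsg.Agent.Lib.Helper82.CharCore

/-!
# S0997 case B2 (project BW), piece BW-TYPES (helper66, for helper10)

The number `a` of `P`-fixed vectors of each irreducible character `χ` and its degree, by type.
-/

set_option autoImplicit false
set_option linter.style.haveILetI false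

namespace Cfsg.Agent.Lib.Helper10.BW

open Cfsg
open Cfsg.Agent.Lib.Helper83 (trivIrr)
open Cfsg.Agent.Lib.Helper10.BR (psum DOut)
open scoped ComplexConjugate

universe u

variable {G : Type u} [Group G] [Fintype G]

variable {p e : ℕ} {P : Subgroup G} {θ θ' : IrrCharacter G}
  {Xp Xm D : Finset (IrrCharacter G)}

/-- `psum P χ 1 = χ 1 + c * v` when `χ` is constant `v` on `P \ {1}` and `|P| = c + 1`. -/
theorem types_psum_const (hP : Nat.card P = p) (ψ : G → ℂ) (v : ℂ)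
    (hv : ∀ x ∈ P, x ≠ 1 → ψ x = v) :
    ∃ c : ℕ, c + 1 = p ∧ psum P ψ 1 = ψ 1 + (c : ℂ) * v := by
  classical
  have hfin : Fintype P := Fintype.ofFinite P
  refine ⟨(Finset.univ.erase (1 : P)).card, ?_, ?_⟩
  · rw [Finset.card_erase_add_one (Finset.mem_univ _), Finset.card_univ,
      ← Nat.card_eq_fintype_card]
    exact hP
  · rw [Cfsg.Agent.Lib.Helper10.BR.psum_eq_sum,
      ← Finset.add_sum_erase Finset.univ (fun u : P => ψ (1 * (u : G))) (Finset.mem_univ (1 : P))]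
    have h1 : ∀ u ∈ Finset.univ.erase (1 : P), ψ (1 * (u : G)) = v := by
      intro u hu
      rw [one_mul]
      apply hv (u : G) u.2
      intro h
      exact (Finset.mem_erase.1 hu).1 (Subtype.ext h)
    rw [Finset.sum_congr rfl h1, Finset.sum_const, nsmul_eq_mul]
    simp

/-- BW-TYPES -/
theorem types (h : VTab G p e P θ θ' Xp Xm D) [IsSimpleGroup G] (hG : ¬ IsCyclic G)
    (h1 : psum P (θ : G → ℂ) 1 = (p : ℂ)) (h1' : psum P (θ' : G → ℂ) 1 = (p : ℂ))
    (χ : IrrCharacter G) :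
    ∃ a : ℕ, psum P (χ : G → ℂ) 1 = (p : ℂ) * a ∧
      ((χ = θ ∨ χ = θ' ∨ χ = trivIrr G) ∧ a = 1 ∨
       χ ∈ Xp ∧ 2 ≤ a ∨
       χ ∈ Xm ∧ charDegree (χ : G → ℂ) + 1 = p * (a + 1) ∨
       χ ∈ D ∧ 1 ≤ a ∧ charDegree (χ : G → ℂ) = p * a) := by
  classical
  obtain ⟨hdeg, hd0⟩ := Cfsg.Agent.Lib.Helper82.irr_charDegree χ
  have hd1 : 1 ≤ charDegree (χ : G → ℂ) := Nat.one_le_iff_ne_zero.2 hd0
  obtain ⟨a, ha⟩ := Cfsg.Agent.Lib.Helper10.BR.BRI1aux.psum_nat P χ
  rw [h.cardP] at ha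
  rcases h.part χ with hχ | hχ | hχ | hχ | hχ
  · refine ⟨1, ?_, Or.inl ⟨Or.inl hχ, rfl⟩⟩
    rw [hχ, h1]; simp
  · refine ⟨1, ?_, Or.inl ⟨Or.inr (Or.inl hχ), rfl⟩⟩
    rw [hχ, h1']; simp
  · -- constant `1` on `P \\ {1}`
    obtain ⟨c, hc, hs⟩ := types_psum_const h.cardP (χ : G → ℂ) 1 (h.valXp χ hχ)
    rw [ha, ← hdeg, mul_one] at hs
    have hnat : p * a = charDegree (χ : G → ℂ) + c := by exact_mod_cast hs
    by_cases ha2 : 2 ≤ a
    · exact ⟨a, ha, Or.inr (Or.inl ⟨hχ, ha2⟩)⟩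
    · have ha1 : a = 1 := by
        rcases Nat.lt_or_ge a 1 with h0 | h0
        · have : a = 0 := by omega
          rw [this, mul_zero] at hnat
          omega
        · omega
      refine ⟨a, ha, Or.inl ⟨Or.inr (Or.inr ?_), ha1⟩⟩
      by_contra hne
      have h2 := Cfsg.Agent.Lib.Helper10.BT.deg_ge_two
        (Cfsg.Agent.Lib.Helper10.BR.BRX1aux.perfect_of_simple hG) χ hne
      rw [ha1, mul_one] at hnat
      omega
  · -- constant `-1` on `P \\ {1}`
    obtain ⟨c, hc, hs⟩ := types_psum_const h.cardP (χ : G → ℂ) (-1) (h.valXm χ hχ)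
    rw [ha, ← hdeg] at hs
    have hnat : p * a + c = charDegree (χ : G → ℂ) := by
      have : ((p * a + c : ℕ) : ℂ) = ((charDegree (χ : G → ℂ) : ℕ) : ℂ) := by
        push_cast
        rw [hs]; ring
      exact_mod_cast this
    refine ⟨a, ha, Or.inr (Or.inr (Or.inl ⟨hχ, ?_⟩))⟩
    rw [mul_add_one, ← hnat, ← hc]
    ring
  · -- constant `0` on `P \\ {1}`
    obtain ⟨c, hc, hs⟩ := types_psum_const h.cardP (χ : G → ℂ) 0 (h.valD χ hχ)
    rw [ha, ← hdeg, mul_zero, add_zero] at hs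
    have hnat : p * a = charDegree (χ : G → ℂ) := by exact_mod_cast hs
    refine ⟨a, ha, Or.inr (Or.inr (Or.inr ⟨hχ, ?_, hnat.symm⟩))⟩
    rcases Nat.lt_or_ge a 1 with h0 | h0
    · have : a = 0 := by omega
      rw [this, mul_zero] at hnat
      omega
    · exact h0

end Cfsg.Agent.Lib.Helper10.BW
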