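import Mathlib
import Cfsg.Agent.Lib.Helper35.Ind
import Cfsg.Agent.Lib.Helper4.CharDecomp
import Cfsg.Agent.Lib.Helper83.Quot
import Cfsg.Agent.Lib.Helper83.Ortho
import Cfsg.Agent.Lib.Helper83.IrrBasic
import Cfsg.Agent.Lib.Helper20.Clifford
import Cfsg.Agent.Lib.Helper30.Basic
import Cfsg.Agent.Lib.Helper66.Cores

set_option autoImplicit false

namespace Cfsg.Agent.Lib.Helper66

open Cfsg Cfsg.Agent.Lib
open scoped ComplexConjugate Pointwise commutatorElement

/-- If `θ ∈ Irr(H)` does not vanish at `u ∈ H` and some `G`-conjugate of `u` lies outside `H`,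
then some irreducible constituent of the induced character has degree larger than `θ(1)`. -/
theorem exists_larger_constituent {G : Type*} [Group G] [Fintype G] (H : Subgroup G) [Fintype H]
    (θ : H → ℂ) (hθ : IsIrrCharacter H θ) (u : H) (hu : θ u ≠ 0) (x : G)
    (hx : x * (u : G) * x⁻¹ ∉ H) :
    ∃ ψ : IrrCharacter G, classInner (Helper35.res H ψ.1) θ ≠ 0 ∧
      charDegree θ < charDegree ψ.1 := by
  classical
  by_contra hcon
  push Not at hcon
  let _ : Fintype (IrrCharacter G) := Fintype.ofFinite _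
  letI : Fintype (IrrCharacter H) := Fintype.ofFinite _
  have hΦchar : IsCharacter G (indFun H θ) :=
    Helper35.isCharacter_indFun H (Helper35.isChar_of_irr hθ)
  have hΦcf : IsClassFunction G (indFun H θ) := Helper35.isClassFunction_indFun H θ
  obtain ⟨a, ha⟩ := Helper4.exists_decomp_of_isCharacter (indFun H θ) hΦchar
  have haψ : ∀ ψ : IrrCharacter G, classInner (Helper35.res H ψ.1) θ = a ψ := by
    intro ψ
    have h1 : classInner (indFun H θ) ψ.1 = a ψ := by
      conv_lhs => rw [ha]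
      exact Helper4.classInner_sum_irr _ ψ
    rw [Helper35.frobenius_reciprocity H θ ψ.1
      (Helper35.isClassFunction_of_isCharacter (Helper35.isChar_of_irr ψ.2))] at h1
    rw [Helper4.classInner_conj_symm, h1, Complex.conj_natCast]
  have hkey : ∀ ψ : IrrCharacter G, a ψ ≠ 0 → a ψ = 1 ∧ Helper35.res H ψ.1 = θ := by
    intro ψ hψ0
    obtain ⟨b, hb⟩ := Helper4.exists_decomp_of_isCharacter (Helper35.res H ψ.1)
      (Helper35.isCharacter_res H (Helper35.isChar_of_irr ψ.2))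
    have hbθ : (b ⟨θ, hθ⟩ : ℂ) = a ψ := by
      rw [← haψ ψ]
      conv_rhs => rw [hb]
      exact (Helper4.classInner_sum_irr (fun η => (b η : ℂ)) ⟨θ, hθ⟩).symm
    have hbθ' : b ⟨θ, hθ⟩ = a ψ := by exact_mod_cast hbθ
    have hdeg : charDegree ψ.1 = ∑ η : IrrCharacter H, b η * charDegree η.1 := by
      have h1 := congrFun hb 1
      simp only [Helper35.res_apply, Finset.sum_apply, Pi.smul_apply, smul_eq_mul] at h1
      rw [OneMemClass.coe_one, (Helper83.irr_degree ψ.2).2] at h1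
      have h2 : ∀ η : IrrCharacter H, (b η : ℂ) * η.1 1 = ((b η * charDegree η.1 : ℕ) : ℂ) := by
        intro η
        rw [(Helper83.irr_degree η.2).2]
        push_cast
        ring
      rw [Finset.sum_congr rfl (fun η _ => h2 η), ← Nat.cast_sum] at h1
      exact_mod_cast h1
    have hle := hcon ψ (by rw [haψ ψ]; exact_mod_cast hψ0)
    rw [← Finset.add_sum_erase Finset.univ _ (Finset.mem_univ (⟨θ, hθ⟩ : IrrCharacter H))] at hdeg
    have hdeg' : charDegree ψ.1 = b ⟨θ, hθ⟩ * charDegree θ +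
        ∑ η ∈ Finset.univ.erase (⟨θ, hθ⟩ : IrrCharacter H), b η * charDegree η.1 := hdeg
    clear hdeg
    have hθpos := (Helper83.irr_degree hθ).1
    have hb1 : 1 ≤ b ⟨θ, hθ⟩ := by rw [hbθ']; omega
    have hb_eq : b ⟨θ, hθ⟩ = 1 := by
      by_contra hne
      have h2 : 2 ≤ b ⟨θ, hθ⟩ := by omega
      have h3 : 2 * charDegree θ ≤ b ⟨θ, hθ⟩ * charDegree θ := Nat.mul_le_mul_right _ h2
      have h4 : b ⟨θ, hθ⟩ * charDegree θ ≤ charDegree ψ.1 := by
        rw [hdeg']; exact Nat.le_add_right _ _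
      omega
    have hrest : ∑ η ∈ Finset.univ.erase (⟨θ, hθ⟩ : IrrCharacter H), b η * charDegree η.1 = 0 := by
      rw [hb_eq, one_mul] at hdeg'
      omega
    have hb0 : ∀ η : IrrCharacter H, η ≠ ⟨θ, hθ⟩ → b η = 0 := by
      intro η hη
      have := (Finset.sum_eq_zero_iff.mp hrest) η (Finset.mem_erase.mpr ⟨hη, Finset.mem_univ _⟩)
      rcases Nat.mul_eq_zero.mp this with h | h
      · exact h
      · exact absurd h (Helper83.irr_degree η.2).1.ne'
    refine ⟨by rw [← hbθ']; exact hb_eq, ?_⟩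
    rw [hb, ← Finset.add_sum_erase Finset.univ _ (Finset.mem_univ (⟨θ, hθ⟩ : IrrCharacter H)),
      Finset.sum_eq_zero (fun η hη => by rw [hb0 η (Finset.mem_erase.mp hη).1]; simp), hb_eq]
    simp
  have hres : Helper35.res H (indFun H θ) = ((∑ ψ : IrrCharacter G, a ψ : ℕ) : ℂ) • θ := by
    funext h
    have h1 := congrFun ha (h : G)
    simp only [Helper35.res_apply, Finset.sum_apply, Pi.smul_apply, smul_eq_mul] at h1 ⊢
    rw [h1, Nat.cast_sum, Finset.sum_mul]
    apply Finset.sum_congr rfl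
    intro ψ _
    by_cases h0 : a ψ = 0
    · rw [h0]; simp
    · have := congrFun (hkey ψ h0).2 h
      rw [Helper35.res_apply] at this
      rw [this]
  set s : ℕ := ∑ ψ : IrrCharacter G, a ψ with hsdef
  have hs : s = H.index := by
    have h1 := congrFun hres 1
    rw [Helper35.res_apply, OneMemClass.coe_one, Helper35.indFun_one_eq H θ] at h1
    simp only [Pi.smul_apply, smul_eq_mul] at h1
    have h3 : θ 1 ≠ 0 := Helper83.irr_one_ne_zero hθ
    have := mul_right_cancel₀ h3 h1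
    exact_mod_cast this.symm
  have hnorm : classInner (indFun H θ) (indFun H θ) = s := by
    rw [Helper35.frobenius_reciprocity H θ _ hΦcf, hres, Helper35.classInner_smul_right,
      Helper35.classInner_irr' hθ hθ, if_pos rfl, mul_one, Complex.conj_natCast]
  have hGne : (Nat.card G : ℂ) ≠ 0 := by exact_mod_cast Nat.card_pos.ne'
  have hHne : (Nat.card H : ℂ) ≠ 0 := by exact_mod_cast Nat.card_pos.ne'
  have hvanish : ∀ g : G, g ∉ H → indFun H θ g = 0 := by
    have hsumG : ∑ g : G, indFun H θ g * conj (indFun H θ g) = (Nat.card G : ℂ) * s := by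
      have h1 := hnorm
      unfold classInner at h1
      rw [inv_mul_eq_iff_eq_mul₀ hGne] at h1
      exact h1
    have hsumθ : ∑ h : H, θ h * conj (θ h) = (Nat.card H : ℂ) := by
      have h1 := Helper35.classInner_irr' hθ hθ
      rw [if_pos rfl] at h1
      unfold classInner at h1
      rw [inv_mul_eq_iff_eq_mul₀ hHne, mul_one] at h1
      exact h1
    have hsumH : ∑ h : H, indFun H θ h * conj (indFun H θ h) = (Nat.card G : ℂ) * s := by
      have h1 : ∀ h : H, indFun H θ h * conj (indFun H θ h) =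
          (s : ℂ) * s * (θ h * conj (θ h)) := by
        intro h
        have h2 := congrFun hres h
        rw [Helper35.res_apply] at h2
        rw [h2]
        simp only [Pi.smul_apply, smul_eq_mul, map_mul, Complex.conj_natCast]
        ring
      rw [Finset.sum_congr rfl (fun h _ => h1 h), ← Finset.mul_sum, hsumθ]
      have h3 : Nat.card G = Nat.card H * s := by
        rw [hs]; exact (Subgroup.card_mul_index H).symm
      rw [h3]
      push_cast
      ring
    have hA : ∑ g ∈ Finset.univ.filter (fun g : G => g ∈ H),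
        indFun H θ g * conj (indFun H θ g) =
        ∑ h : H, indFun H θ h * conj (indFun H θ h) :=
      Finset.sum_subtype _ (fun x => by simp) _
    have hsplit := Finset.sum_filter_add_sum_filter_not Finset.univ (fun g : G => g ∈ H)
      (fun g => indFun H θ g * conj (indFun H θ g))
    rw [hA, hsumH, hsumG] at hsplit
    have hzero : ∑ g ∈ Finset.univ.filter (fun g : G => ¬ g ∈ H),
        indFun H θ g * conj (indFun H θ g) = 0 := by
      linear_combination hsplit
    intro g hg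
    have hre : ∑ g ∈ Finset.univ.filter (fun g : G => ¬ g ∈ H),
        Complex.normSq (indFun H θ g) = 0 := by
      have := congrArg Complex.re hzero
      rw [Complex.re_sum] at this
      simpa [Complex.mul_conj] using this
    have := (Finset.sum_eq_zero_iff_of_nonneg (fun i _ => Complex.normSq_nonneg _)).mp hre
      g (Finset.mem_filter.mpr ⟨Finset.mem_univ _, hg⟩)
    exact Complex.normSq_eq_zero.mp this
  have h1 : indFun H θ (x * (u : G) * x⁻¹) = indFun H θ (u : G) := hΦcf (u : G) x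
  rw [hvanish _ hx] at h1
  have h2 := congrFun hres u
  rw [Helper35.res_apply, ← h1] at h2
  simp only [Pi.smul_apply, smul_eq_mul] at h2
  have hs0 : (s : ℂ) ≠ 0 := by
    rw [hs]
    exact_mod_cast Subgroup.index_ne_zero_of_finite
  exact (mul_ne_zero hs0 hu) h2.symm

/-- Restriction to a supplement of a normal subgroup contained in the kernel is irreducible. -/
theorem res_irr_of_sup_eq_top {G : Type*} [Group G] [Finite G] (ψ : IrrCharacter G)
    (K : Subgroup G) [K.Normal] (hK : ∀ k ∈ K, ψ.1 k = ψ.1 1) (H : Subgroup G)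
    (hKH : K ⊔ H = ⊤) : IsIrrCharacter H (Helper35.res H ψ.1) := by
  obtain ⟨ψ', hψ'⟩ := Helper83.exists_inflate_eq (N := K) ψ hK
  have hsurj : Function.Surjective ((QuotientGroup.mk' K).comp H.subtype) := by
    intro q
    obtain ⟨g, rfl⟩ := QuotientGroup.mk_surjective q
    have hg : g ∈ K ⊔ H := by rw [hKH]; exact Subgroup.mem_top g
    obtain ⟨k, hk, h, hh, rfl⟩ := Subgroup.mem_sup_of_normal_left.mp hg
    refine ⟨⟨h, hh⟩, ?_⟩
    show ((h : G) : G ⧸ K) = ((k * h : G) : G ⧸ K)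
    rw [QuotientGroup.mk_mul, (QuotientGroup.eq_one_iff k).mpr hk, one_mul]
  have h1 := Helper20.irr_comp_surjective ((QuotientGroup.mk' K).comp H.subtype) hsurj ψ'.2
  have h2 : Helper35.res H ψ.1 = fun a : H => ψ'.1 (((QuotientGroup.mk' K).comp H.subtype) a) := by
    funext a
    rw [Helper35.res_apply, ← hψ', Helper83.inflate_apply]
    rfl
  rw [h2]
  exact h1

/-- An irreducible constituent of a character `φ` has kernel containing the kernel of `φ`. -/
theorem constituent_ker {H : Type*} [Group H] [Fintype H] (φ : H → ℂ) (hφ : IsCharacter H φ)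
    (η : H → ℂ) (hη : IsIrrCharacter H η) (hne : classInner φ η ≠ 0) (h : H)
    (hh : φ h = φ 1) : η h = η 1 := by
  classical
  letI : Fintype (IrrCharacter H) := Fintype.ofFinite _
  obtain ⟨b, hb⟩ := Helper4.exists_decomp_of_isCharacter φ hφ
  have hbη : (b ⟨η, hη⟩ : ℂ) = classInner φ η := by
    conv_rhs => rw [hb]
    exact (Helper4.classInner_sum_irr (fun η => (b η : ℂ)) ⟨η, hη⟩).symm
  have hb0 : b ⟨η, hη⟩ ≠ 0 := by
    intro h0
    rw [h0] at hbη
    exact hne (by rw [← hbη]; simp)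
  have h1 := congrFun hb h
  have h2 := congrFun hb 1
  simp only [Finset.sum_apply, Pi.smul_apply, smul_eq_mul] at h1 h2
  rw [hh, h2] at h1
  have hterm : ∀ ξ : IrrCharacter H, 0 ≤ (b ξ : ℝ) * ((charDegree ξ.1 : ℝ) - (ξ.1 h).re) := by
    intro ξ
    have h3 : (ξ.1 h).re ≤ (charDegree ξ.1 : ℝ) :=
      (Complex.re_le_norm _).trans (Helper83.irr_norm_le ξ.2 h)
    exact mul_nonneg (Nat.cast_nonneg _) (sub_nonneg.mpr h3)
  have hsum : ∑ ξ : IrrCharacter H, (b ξ : ℝ) * ((charDegree ξ.1 : ℝ) - (ξ.1 h).re) = 0 := by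
    have h3 := congrArg Complex.re h1
    rw [Complex.re_sum, Complex.re_sum] at h3
    have h4 : ∀ ξ : IrrCharacter H, ((b ξ : ℂ) * ξ.1 1).re = (b ξ : ℝ) * (charDegree ξ.1 : ℝ) := by
      intro ξ
      rw [(Helper83.irr_degree ξ.2).2]
      simp
    have h5 : ∀ ξ : IrrCharacter H, ((b ξ : ℂ) * ξ.1 h).re = (b ξ : ℝ) * (ξ.1 h).re := by
      intro ξ
      simp
    rw [Finset.sum_congr rfl (fun ξ _ => h4 ξ), Finset.sum_congr rfl (fun ξ _ => h5 ξ)] at h3
    have h6 : ∑ ξ : IrrCharacter H, (b ξ : ℝ) * ((charDegree ξ.1 : ℝ) - (ξ.1 h).re) =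
        ∑ ξ : IrrCharacter H, (b ξ : ℝ) * (charDegree ξ.1 : ℝ) -
        ∑ ξ : IrrCharacter H, (b ξ : ℝ) * (ξ.1 h).re := by
      rw [← Finset.sum_sub_distrib]
      apply Finset.sum_congr rfl
      intro ξ _
      ring
    rw [h6, h3, sub_self]
  have h7 := (Finset.sum_eq_zero_iff_of_nonneg (fun ξ _ => hterm ξ)).mp hsum ⟨η, hη⟩
    (Finset.mem_univ _)
  have h8 : (η h).re = (charDegree η : ℝ) := by
    have hb0' : (b ⟨η, hη⟩ : ℝ) ≠ 0 := by exact_mod_cast hb0
    have := (mul_eq_zero.mp h7).resolve_left hb0'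
    linarith
  have h9 : ‖η h‖ ≤ (charDegree η : ℝ) := Helper83.irr_norm_le hη h
  have h10 : (η h).im = 0 := by
    have h11 : ‖η h‖ ^ 2 ≤ (charDegree η : ℝ) ^ 2 :=
      pow_le_pow_left₀ (norm_nonneg _) h9 2
    rw [Complex.sq_norm, Complex.normSq_apply, h8] at h11
    nlinarith [sq_nonneg (η h).im]
  rw [(Helper83.irr_degree hη).2]
  apply Complex.ext
  · rw [h8]; simp
  · rw [h10]; simp

/-- The common character-theoretic core of the Broline argument. -/
theorem broline_core {G : Type*} [Group G] [Finite G] (χ : IrrCharacter G) (K : Subgroup G)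
    [K.Normal] (hK : ∀ g : G, g ∈ K ↔ χ.1 g = χ.1 1) (H : Subgroup G) (hKH : K ⊔ H = ⊤)
    (ha : ∀ L : Subgroup G, L.Normal → L ⊓ H ≤ K → L ≤ K)
    (u : G) (huH : u ∈ H) (hu : χ.1 u ≠ 0) (x : G) (hx : x * u * x⁻¹ ∉ H) :
    ∃ ψ : IrrCharacter G, charDegree χ.1 < charDegree ψ.1 ∧
      ∃ L : Subgroup G, (∀ g : G, g ∈ L ↔ ψ.1 g = ψ.1 1) ∧ L < K := by
  classical
  letI : Fintype G := Fintype.ofFinite G
  letI : Fintype H := Fintype.ofFinite H
  have hθ : IsIrrCharacter H (Helper35.res H χ.1) :=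
    res_irr_of_sup_eq_top χ K (fun k hk => (hK k).mp hk) H hKH
  obtain ⟨ψ, hψne, hψdeg⟩ := exists_larger_constituent H (Helper35.res H χ.1) hθ ⟨u, huH⟩
    (by rw [Helper35.res_apply]; exact hu) x hx
  have hdegθ : charDegree (Helper35.res H χ.1) = charDegree χ.1 := by
    unfold charDegree
    rw [Helper35.res_apply, OneMemClass.coe_one]
  rw [hdegθ] at hψdeg
  refine ⟨ψ, hψdeg, Helper83.irrKer ψ, Helper83.mem_irrKer ψ, ?_⟩
  have hLH : Helper83.irrKer ψ ⊓ H ≤ K := by
    intro g hg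
    have hgL : ψ.1 g = ψ.1 1 := (Helper83.mem_irrKer ψ g).mp hg.1
    have h1 := constituent_ker (Helper35.res H ψ.1)
      (Helper35.isCharacter_res H (Helper35.isChar_of_irr ψ.2)) (Helper35.res H χ.1) hθ hψne
      ⟨g, hg.2⟩ (by rw [Helper35.res_apply, Helper35.res_apply, OneMemClass.coe_one]; exact hgL)
    rw [Helper35.res_apply, Helper35.res_apply, OneMemClass.coe_one] at h1
    exact (hK g).mpr h1
  have hLK : Helper83.irrKer ψ ≤ K := ha _ inferInstance hLH
  refine lt_of_le_of_ne hLK ?_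
  intro hEq
  have hψK : ∀ k ∈ K, ψ.1 k = ψ.1 1 := by
    intro k hk
    rw [← hEq] at hk
    exact (Helper83.mem_irrKer ψ k).mp hk
  have hirr : IsIrrCharacter H (Helper35.res H ψ.1) := res_irr_of_sup_eq_top ψ K hψK H hKH
  have h1 := Helper35.classInner_irr' hirr hθ
  by_cases heq : Helper35.res H ψ.1 = Helper35.res H χ.1
  · have h2 := congrFun heq 1
    rw [Helper35.res_apply, Helper35.res_apply, OneMemClass.coe_one] at h2
    unfold charDegree at hψdeg
    rw [h2] at hψdeg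
    exact lt_irrefl _ hψdeg
  · rw [if_neg heq] at h1
    exact hψne h1

/-! ### Sylow-theoretic lemmas -/

theorem mem_smul_sylow_iff' {X : Type*} [Group X] {p : ℕ} {g : X} {R : Sylow p X} {c : X} :
    c ∈ (g • R : Sylow p X) ↔ g⁻¹ * c * g ∈ R := by
  show c ∈ MulAut.conj g • (R : Subgroup X) ↔ _
  rw [Subgroup.mem_pointwise_smul_iff_inv_smul_mem]
  have : (MulAut.conj g)⁻¹ • c = g⁻¹ * c * g := by simp [MulAut.smul_def]
  rw [this]
  rfl

theorem exists_conj_mem_sylow_of_le' {X : Type*} [Group X] [Finite X] {p : ℕ} [Fact p.Prime]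
    (T : Sylow p X) {Y : Subgroup X} (hTY : (T : Subgroup X) ≤ Y) {B : Subgroup X}
    (hB : IsPGroup p B) (hBY : B ≤ Y) : ∃ g ∈ Y, ∀ b ∈ B, g * b * g⁻¹ ∈ T := by
  have hB' : IsPGroup p (B.subgroupOf Y) := hB.comap_subtype
  obtain ⟨R, hR⟩ := hB'.exists_le_sylow
  obtain ⟨g, hg⟩ := MulAction.exists_smul_eq Y R (T.subtype hTY)
  refine ⟨g, g.2, fun b hb => ?_⟩
  have h1 : (⟨b, hBY hb⟩ : Y) ∈ R := hR (by rw [Subgroup.mem_subgroupOf]; exact hb)
  have h2 : g * ⟨b, hBY hb⟩ * g⁻¹ ∈ T.subtype hTY := by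
    rw [← hg, mem_smul_sylow_iff']
    have : g⁻¹ * (g * ⟨b, hBY hb⟩ * g⁻¹) * g = (⟨b, hBY hb⟩ : Y) := by group
    rw [this]
    exact h1
  have h3 : g * ⟨b, hBY hb⟩ * g⁻¹ ∈ (T : Subgroup X).subgroupOf Y := by
    rw [← Sylow.coe_subtype T hTY]
    exact h2
  rw [Subgroup.mem_subgroupOf] at h3
  exact h3

theorem isPGroup_zpowers_of_orderOf {X : Type*} [Group X] {q : ℕ} (y : X) (k : ℕ)
    (hy : orderOf y = q ^ k) : IsPGroup q (Subgroup.zpowers y) := by
  apply IsPGroup.of_card (n := k)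
  rw [Nat.card_zpowers, hy]

theorem sylow_conj_mem {G : Type*} [Group G] [Finite G] {q : ℕ} [Fact q.Prime] (M : Subgroup G)
    (Q : Sylow q M) (y : G) (hyM : y ∈ M) (hyq : ∃ k, orderOf y = q ^ k) :
    ∃ m ∈ M, m * y * m⁻¹ ∈ (Q : Subgroup M).map M.subtype := by
  obtain ⟨k, hk⟩ := hyq
  have hzp : IsPGroup q (Subgroup.zpowers (⟨y, hyM⟩ : M)) :=
    isPGroup_zpowers_of_orderOf _ k (by rw [← hk]; exact Subgroup.orderOf_mk y hyM)
  obtain ⟨R, hR⟩ := hzp.exists_le_sylow
  obtain ⟨g, hg⟩ := MulAction.exists_smul_eq M R Q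
  refine ⟨g, g.2, ⟨g * ⟨y, hyM⟩ * g⁻¹, ?_, rfl⟩⟩
  show g * ⟨y, hyM⟩ * g⁻¹ ∈ Q
  rw [← hg, mem_smul_sylow_iff']
  have : g⁻¹ * (g * ⟨y, hyM⟩ * g⁻¹) * g = (⟨y, hyM⟩ : M) := by group
  rw [this]
  exact hR (Subgroup.mem_zpowers _)

theorem sylow_mem_of_normalizer {G : Type*} [Group G] [Finite G] {q : ℕ} [Fact q.Prime]
    (M : Subgroup G) (Q : Sylow q M) (y : G) (hyM : y ∈ M) (hyq : ∃ k, orderOf y = q ^ k)
    (hyN : y ∈ Subgroup.normalizer (((Q : Subgroup M).map M.subtype : Subgroup G) : Set G)) :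
    y ∈ (Q : Subgroup M).map M.subtype := by
  obtain ⟨k, hk⟩ := hyq
  have hzp : IsPGroup q (Subgroup.zpowers (⟨y, hyM⟩ : M)) :=
    isPGroup_zpowers_of_orderOf _ k (by rw [← hk]; exact Subgroup.orderOf_mk y hyM)
  have hmem : ∀ n : M, (n : G) ∈ (Q : Subgroup M).map M.subtype ↔ n ∈ (Q : Subgroup M) := by
    intro n
    exact Subgroup.mem_map_iff_mem M.subtype_injective
  have hle : Subgroup.zpowers (⟨y, hyM⟩ : M) ≤
      Subgroup.normalizer ((Q : Subgroup M) : Set M) := by
    rw [Subgroup.zpowers_le, Subgroup.mem_normalizer_iff]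
    intro n
    rw [← hmem n, ← hmem]
    exact (Subgroup.mem_normalizer_iff.mp hyN) (n : G)
  have h1 := IsPGroup.to_sup_of_normal_right' hzp Q.isPGroup' hle
  have h2 := Q.is_maximal' h1 le_sup_right
  have h3 : (⟨y, hyM⟩ : M) ∈ (Q : Subgroup M) := by
    rw [← h2]; exact Subgroup.mem_sup_left (Subgroup.mem_zpowers _)
  exact ⟨⟨y, hyM⟩, h3, rfl⟩

/-- A Frattini-type statement: a normal subgroup `L` is covered by `L ⊓ M` and
`L ⊓ N_G(Q)` for a Sylow subgroup `Q` of the normal subgroup `M`. -/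
theorem frattini_normal {G : Type*} [Group G] [Finite G] {q : ℕ} [Fact q.Prime]
    (M : Subgroup G) [M.Normal] (Q : Sylow q M) (L : Subgroup G) [hL : L.Normal] (l : G)
    (hl : l ∈ L) :
    ∃ r ∈ L ⊓ M, r * l ∈
      Subgroup.normalizer (((Q : Subgroup M).map M.subtype : Subgroup G) : Set G) := by
  classical
  have hB : IsPGroup q ((Q : Subgroup M).map (MulAut.conjNormal l : MulAut M).toMonoidHom) :=
    Q.isPGroup'.map _
  have hLn : (L.subgroupOf M).Normal := inferInstance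
  have hQY : (Q : Subgroup M) ≤ L.subgroupOf M ⊔ (Q : Subgroup M) := le_sup_right
  have hBY : (Q : Subgroup M).map (MulAut.conjNormal l : MulAut M).toMonoidHom ≤
      L.subgroupOf M ⊔ (Q : Subgroup M) := by
    rintro b ⟨u, hu, rfl⟩
    have h1 : (MulAut.conjNormal l : MulAut M) u * u⁻¹ ∈ L.subgroupOf M := by
      rw [Subgroup.mem_subgroupOf]
      simp only [Subgroup.coe_mul, Subgroup.coe_inv, MulAut.conjNormal_apply]
      have : l * (u : G) * l⁻¹ * (u : G)⁻¹ = l * ((u : G) * l⁻¹ * (u : G)⁻¹) := by group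
      rw [this]
      exact L.mul_mem hl (hL.conj_mem _ (L.inv_mem hl) _)
    have h2 : (MulAut.conjNormal l : MulAut M) u =
        ((MulAut.conjNormal l : MulAut M) u * u⁻¹) * u := by group
    show (MulAut.conjNormal l : MulAut M) u ∈ L.subgroupOf M ⊔ (Q : Subgroup M)
    rw [h2]
    exact Subgroup.mul_mem_sup h1 hu
  obtain ⟨g, hgY, hg⟩ := exists_conj_mem_sylow_of_le' Q hQY hB hBY
  obtain ⟨r, hr, u', hu', rfl⟩ := Subgroup.mem_sup_of_normal_left.mp hgY
  refine ⟨((u'⁻¹ * r * u' : M) : G), ⟨?_, (u'⁻¹ * r * u').2⟩, ?_⟩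
  · have := hLn.conj_mem' r hr u'
    exact Subgroup.mem_subgroupOf.mp this
  · apply Subgroup.mem_normalizer_fintype
    rintro n ⟨v, hv, rfl⟩
    have h1 : r * u' * (MulAut.conjNormal l : MulAut M) v * (r * u')⁻¹ ∈ (Q : Subgroup M) :=
      hg _ ⟨v, hv, rfl⟩
    have h2 : u'⁻¹ * (r * u' * (MulAut.conjNormal l : MulAut M) v * (r * u')⁻¹) * u' ∈
        (Q : Subgroup M) :=
      (Q : Subgroup M).mul_mem ((Q : Subgroup M).mul_mem ((Q : Subgroup M).inv_mem hu') h1) hu'
    refine ⟨_, h2, ?_⟩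
    simp only [Subgroup.coe_subtype, Subgroup.coe_mul, Subgroup.coe_inv, MulAut.conjNormal_apply]
    group

theorem exists_pCore_ne_bot (X : Type*) [Group X] [Finite X] [Group.IsSolvable X] [Nontrivial X] :
    ∃ q : ℕ, q.Prime ∧ pCore q X ≠ ⊥ := by
  classical
  have hsolv := Group.IsSolvable.solvable (G := X)
  have hn_spec : derivedSeries X (Nat.find hsolv) = ⊥ := Nat.find_spec hsolv
  have hn0 : Nat.find hsolv ≠ 0 := by
    intro h0
    rw [h0, derivedSeries_zero] at hn_spec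
    exact top_ne_bot hn_spec
  obtain ⟨k, hk⟩ := Nat.exists_eq_succ_of_ne_zero hn0
  have hA : derivedSeries X k ≠ ⊥ := Nat.find_min hsolv (by omega)
  have hAA : ⁅derivedSeries X k, derivedSeries X k⁆ = ⊥ := by
    rw [← derivedSeries_succ, ← Nat.succ_eq_add_one, ← hk]; exact hn_spec
  have hAnil : Group.IsNilpotent (derivedSeries X k) := by
    have hcomm : ∀ a b : derivedSeries X k, a * b = b * a := by
      intro a b
      have h1 : ⁅(a : X), (b : X)⁆ ∈ ⁅derivedSeries X k, derivedSeries X k⁆ :=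
        Subgroup.commutator_mem_commutator a.2 b.2
      rw [hAA, Subgroup.mem_bot, commutatorElement_eq_one_iff_mul_comm] at h1
      exact Subtype.ext h1
    refine ⟨⟨1, ?_⟩⟩
    rw [Subgroup.upperCentralSeries_one, Subgroup.eq_top_iff']
    intro a
    rw [Subgroup.mem_center_iff]
    intro b
    exact hcomm b a
  have hAF : derivedSeries X k ≤ fittingSubgroup X :=
    le_sSup ⟨derivedSeries_normal X k, hAnil⟩
  by_contra hcon
  push Not at hcon
  have hF : fittingSubgroup X = ⊥ := by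
    rw [fitting_eq_iSup_pCore]
    simp only [iSup_eq_bot]
    intro q hq
    exact hcon q hq
  exact hA (le_bot_iff.mp (hF ▸ hAF))

theorem broline_sylow {G : Type*} [Group G] [Finite G] (χ : IrrCharacter G) (K : Subgroup G)
    [K.Normal] (hK : ∀ g : G, g ∈ K ↔ χ.1 g = χ.1 1) {q : ℕ} [Fact q.Prime] (M : Subgroup G)
    [M.Normal] (Q : Sylow q M)
    (hM : M ≤ K ⊔ (Q : Subgroup M).map M.subtype)
    (hLM : ∀ L : Subgroup G, L.Normal →
      L ⊓ Subgroup.normalizer (((Q : Subgroup M).map M.subtype : Subgroup G) : Set G) ≤ K →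
      L ⊓ M ≤ K)
    (u : G) (huQ : u ∈ (Q : Subgroup M).map M.subtype) (hu : χ.1 u ≠ 0) (x : G)
    (hx : x * u * x⁻¹ ∉
      Subgroup.normalizer (((Q : Subgroup M).map M.subtype : Subgroup G) : Set G)) :
    ∃ ψ : IrrCharacter G, charDegree χ.1 < charDegree ψ.1 ∧
      ∃ L : Subgroup G, (∀ g : G, g ∈ L ↔ ψ.1 g = ψ.1 1) ∧ L < K := by
  have hQH : (Q : Subgroup M).map M.subtype ≤
      Subgroup.normalizer (((Q : Subgroup M).map M.subtype : Subgroup G) : Set G) :=
    Subgroup.le_normalizer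
  have hKH : K ⊔
      Subgroup.normalizer (((Q : Subgroup M).map M.subtype : Subgroup G) : Set G) = ⊤ := by
    have h1 : Subgroup.normalizer (((Q : Subgroup M).map M.subtype : Subgroup G) : Set G) ⊔ M
        = ⊤ := Sylow.normalizer_sup_eq_top Q
    rw [eq_top_iff, ← h1]
    apply sup_le le_sup_right
    exact hM.trans (sup_le_sup_left hQH K)
  apply broline_core χ K hK _ hKH ?_ u (hQH huQ) hu x hx
  intro L hL hLH l hl
  haveI := hL
  obtain ⟨r, hr, hrl⟩ := frattini_normal M Q L l hl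
  have h1 : r * l ∈ K := hLH ⟨L.mul_mem hr.1 hl, hrl⟩
  have h2 : r ∈ K := hLM L hL hLH hr
  have : l = r⁻¹ * (r * l) := by group
  rw [this]
  exact K.mul_mem (K.inv_mem h2) h1

theorem broline_case1 {G : Type*} [Group G] [Finite G] (χ : IrrCharacter G) (K : Subgroup G)
    [K.Normal] (hK : ∀ g : G, g ∈ K ↔ χ.1 g = χ.1 1) (h : ¬ K ≤ fittingSubgroup G) :
    ∃ ψ : IrrCharacter G, charDegree χ.1 < charDegree ψ.1 ∧
      ∃ L : Subgroup G, (∀ g : G, g ∈ L ↔ ψ.1 g = ψ.1 1) ∧ L < K := by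
  have hnil : ¬ Group.IsNilpotent K := fun hn => h (le_sSup ⟨inferInstance, hn⟩)
  have h3 := (Group.isNilpotent_of_finite_tfae (G := K)).out 0 3
  rw [h3] at hnil
  push Not at hnil
  obtain ⟨p, hp, P, hP⟩ := hnil
  haveI := hp
  have hex : ∃ u ∈ (P : Subgroup K).map K.subtype, ∃ x : G, x * u * x⁻¹ ∉
      Subgroup.normalizer ((((P : Subgroup K).map K.subtype : Subgroup G)) : Set G) := by
    by_contra hcon
    push Not at hcon
    apply hP
    constructor
    intro n hn g
    have h1 : ((g * n * g⁻¹ : K) : G) ∈ (P : Subgroup K).map K.subtype := by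
      apply sylow_mem_of_normalizer K P _ (g * n * g⁻¹).2
      · obtain ⟨k, hk⟩ := (IsPGroup.iff_orderOf.mp P.isPGroup') ⟨n, hn⟩
        refine ⟨k, ?_⟩
        rw [Subgroup.orderOf_coe]
        have h2 : orderOf (g * n * g⁻¹) = orderOf n := by
          have := (MulAut.conj g).orderOf_eq n
          simpa [MulAut.conj_apply] using this
        rw [h2, ← hk]
        exact (Subgroup.orderOf_mk n hn).symm
      · exact hcon (n : G) ⟨n, hn, rfl⟩ (g : G)
    exact (Subgroup.mem_map_iff_mem K.subtype_injective).mp h1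
  obtain ⟨u, huP, x, hx⟩ := hex
  refine broline_sylow χ K hK K P le_sup_left (fun L _ _ => inf_le_right) u huP ?_ x hx
  have huK : u ∈ K := by
    obtain ⟨u', _, rfl⟩ := huP
    exact u'.2
  rw [(hK u).mp huK]
  exact Helper83.irr_one_ne_zero χ.2

theorem broline_case2 {G : Type*} [Group G] [Finite G] (χ : IrrCharacter G) (K : Subgroup G)
    [hKn : K.Normal] (hK : ∀ g : G, g ∈ K ↔ χ.1 g = χ.1 1) (hKF : K = fittingSubgroup G)
    (hsolv : Group.IsSolvable (G ⧸ K)) (hKtop : K ≠ ⊤) :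
    ∃ ψ : IrrCharacter G, charDegree χ.1 < charDegree ψ.1 ∧
      ∃ L : Subgroup G, (∀ g : G, g ∈ L ↔ ψ.1 g = ψ.1 1) ∧ L < K := by
  classical
  haveI : Nontrivial (G ⧸ K) := by
    obtain ⟨g, hg⟩ : ∃ g : G, g ∉ K := by
      by_contra hc
      push Not at hc
      exact hKtop (Subgroup.eq_top_iff' K |>.mpr hc)
    exact ⟨⟨(g : G ⧸ K), 1, fun h => hg ((QuotientGroup.eq_one_iff g).mp h)⟩⟩
  obtain ⟨q, hq, hq1⟩ := exists_pCore_ne_bot (G ⧸ K)
  haveI : Fact q.Prime := ⟨hq⟩
  have hpg : IsPGroup q (pCore q (G ⧸ K)) := isPGroup_pCore q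
  obtain ⟨M, hMdef⟩ : ∃ M : Subgroup G, M = (pCore q (G ⧸ K)).comap (QuotientGroup.mk' K) :=
    ⟨_, rfl⟩
  haveI hMn : M.Normal := by rw [hMdef]; infer_instance
  have hmemM : ∀ g : G, g ∈ M ↔ (g : G ⧸ K) ∈ pCore q (G ⧸ K) := by
    intro g
    rw [hMdef]
    rfl
  have hKM : K ≤ M := by
    intro k hk
    rw [hmemM, (QuotientGroup.eq_one_iff k).mpr hk]
    exact Subgroup.one_mem _
  obtain ⟨Q⟩ : Nonempty (Sylow q M) := inferInstance
  have hQ'M : (Q : Subgroup M).map M.subtype ≤ M := by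
    rintro _ ⟨m, _, rfl⟩
    exact m.2
  have hQH : (Q : Subgroup M).map M.subtype ≤
      Subgroup.normalizer (((Q : Subgroup M).map M.subtype : Subgroup G) : Set G) :=
    Subgroup.le_normalizer
  -- (i)
  have hM : M ≤ K ⊔ (Q : Subgroup M).map M.subtype := by
    have hXM : K ⊔ (Q : Subgroup M).map M.subtype ≤ M := sup_le hKM hQ'M
    have h1 : ((Q : Subgroup M).map M.subtype).relIndex (K ⊔ (Q : Subgroup M).map M.subtype) *
        (K ⊔ (Q : Subgroup M).map M.subtype).relIndex M =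
        ((Q : Subgroup M).map M.subtype).relIndex M :=
      Subgroup.relIndex_mul_relIndex _ _ _ le_sup_right hXM
    have h2 : K.relIndex (K ⊔ (Q : Subgroup M).map M.subtype) *
        (K ⊔ (Q : Subgroup M).map M.subtype).relIndex M = K.relIndex M :=
      Subgroup.relIndex_mul_relIndex _ _ _ le_sup_left hXM
    have h3 : ((Q : Subgroup M).map M.subtype).relIndex M = (Q : Subgroup M).index := by
      rw [Subgroup.relIndex, Subgroup.subgroupOf,
        Subgroup.comap_map_eq_self_of_injective M.subtype_injective]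
    have h4 : ∃ n, K.relIndex M = q ^ n := by
      have h5 : K.relIndex M = Nat.card (pCore q (G ⧸ K)) := by
        have h6 := Subgroup.relIndex_comap (⊥ : Subgroup (G ⧸ K)) (QuotientGroup.mk' K) M
        rw [MonoidHom.comap_bot, QuotientGroup.ker_mk'] at h6
        rw [h6, hMdef, Subgroup.map_comap_eq_self_of_surjective (QuotientGroup.mk'_surjective K),
          Subgroup.relIndex_bot_left]
      rw [h5]
      exact hpg.exists_card_eq
    obtain ⟨n, hn⟩ := h4
    have h7 : (K ⊔ (Q : Subgroup M).map M.subtype).relIndex M ∣ q ^ n := by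
      rw [← hn, ← h2]; exact dvd_mul_left _ _
    obtain ⟨j, -, hj⟩ := (Nat.dvd_prime_pow hq).mp h7
    have h8 : ¬ q ∣ (K ⊔ (Q : Subgroup M).map M.subtype).relIndex M := by
      intro hdvd
      apply Q.not_dvd_index
      rw [← h3, ← h1]
      exact hdvd.mul_left _
    have h9 : (K ⊔ (Q : Subgroup M).map M.subtype).relIndex M = 1 := by
      rw [hj] at h8 ⊢
      cases j with
      | zero => simp
      | succ j => exact absurd (dvd_pow_self q (Nat.succ_ne_zero j)) h8
    exact Subgroup.relIndex_eq_one.mp h9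
  have hex0 : ∃ x0 ∈ M, x0 ∉ K := by
    by_contra hc
    push Not at hc
    apply hq1
    rw [eq_bot_iff]
    intro y hy
    obtain ⟨g, rfl⟩ := QuotientGroup.mk_surjective y
    have : g ∈ K := hc g ((hmemM g).mpr hy)
    rw [Subgroup.mem_bot]
    exact (QuotientGroup.eq_one_iff g).mpr this
  -- (ii)
  have hLM : ∀ L : Subgroup G, L.Normal →
      L ⊓ Subgroup.normalizer (((Q : Subgroup M).map M.subtype : Subgroup G) : Set G) ≤ K →
      L ⊓ M ≤ K := by
    intro L hL hLH x hxLM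
    obtain ⟨hxL, hxM⟩ := hxLM
    have hxbar : (x : G ⧸ K) ∈ pCore q (G ⧸ K) := (hmemM x).mp hxM
    obtain ⟨f, hf⟩ := hpg ⟨_, hxbar⟩
    have hf' : (x : G ⧸ K) ^ q ^ f = 1 := by
      have := congrArg Subtype.val hf
      simpa using this
    obtain ⟨e, s, hs, hes⟩ :=
      Nat.exists_eq_pow_mul_and_not_dvd (orderOf_pos x).ne' q hq.ne_one
    have hy : (x ^ s) ^ q ^ e = 1 := by
      rw [← pow_mul, mul_comm, ← hes, pow_orderOf_eq_one]
    obtain ⟨j, -, hj⟩ := (Nat.dvd_prime_pow hq).mp (orderOf_dvd_of_pow_eq_one hy)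
    obtain ⟨m, hm, hmQ⟩ := sylow_conj_mem M Q (x ^ s) (M.pow_mem hxM s) ⟨j, hj⟩
    have h1 : m * x ^ s * m⁻¹ ∈ K := hLH ⟨hL.conj_mem _ (L.pow_mem hxL s) m, hQH hmQ⟩
    have h2 : x ^ s ∈ K := by
      have := hKn.conj_mem _ h1 m⁻¹
      simpa [mul_assoc] using this
    have h3 : (x : G ⧸ K) ^ s = 1 := by
      rw [← QuotientGroup.mk_pow]
      exact (QuotientGroup.eq_one_iff _).mpr h2
    have h4 : orderOf (x : G ⧸ K) ∣ Nat.gcd s (q ^ f) :=
      Nat.dvd_gcd (orderOf_dvd_of_pow_eq_one h3) (orderOf_dvd_of_pow_eq_one hf')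
    have h5 : Nat.gcd s (q ^ f) = 1 :=
      Nat.Coprime.pow_right f ((Nat.Prime.coprime_iff_not_dvd hq).mpr hs).symm
    rw [h5, Nat.dvd_one, orderOf_eq_one_iff] at h4
    exact (QuotientGroup.eq_one_iff x).mp h4
  -- (iii)
  have hb1 : ∃ u ∈ (Q : Subgroup M).map M.subtype, u ∉ K ∧ χ.1 u ≠ 0 := by
    by_contra hcon
    push Not at hcon
    obtain ⟨x0, hx0M, hx0K⟩ := hex0
    letI : Fintype M := Fintype.ofFinite M
    have hsum := Helper83.irr_sum_normal_eq_zero (N := M) χ.2 x0 hx0M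
      (fun h => hx0K ((hK x0).mpr h)) 1
    obtain ⟨χ', hχ'⟩ := Helper83.exists_inflate_eq (N := K) χ (fun k hk => (hK k).mp hk)
    have hval : ∀ n : M, χ.1 (1 * (n : G)) = if (n : G) ∈ K then χ.1 1 else 0 := by
      intro n
      rw [one_mul]
      split_ifs with hn
      · exact (hK _).mp hn
      · obtain ⟨k, hk, u, hu, hku⟩ := Subgroup.mem_sup_of_normal_left.mp (hM n.2)
        have huK : u ∉ K := fun h => hn (hku ▸ K.mul_mem hk h)
        have h1 : χ.1 (n : G) = χ.1 u := by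
          rw [← hku, ← hχ', Helper83.inflate_apply, Helper83.inflate_apply, QuotientGroup.mk_mul,
            (QuotientGroup.eq_one_iff k).mpr hk, one_mul]
        rw [h1]
        exact hcon u hu huK
    rw [Finset.sum_congr rfl (fun n _ => hval n), Finset.sum_ite, Finset.sum_const,
      Finset.sum_const_zero, add_zero, nsmul_eq_mul] at hsum
    have hne : (Finset.univ.filter (fun n : M => (n : G) ∈ K)).card ≠ 0 := by
      apply Finset.card_ne_zero.mpr
      exact ⟨1, by simp [K.one_mem]⟩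
    rcases mul_eq_zero.mp hsum with h | h
    · exact hne (by exact_mod_cast h)
    · exact Helper83.irr_one_ne_zero χ.2 h
  obtain ⟨u, huQ, huK, hu⟩ := hb1
  have hb2 : ∃ x : G, x * u * x⁻¹ ∉
      Subgroup.normalizer (((Q : Subgroup M).map M.subtype : Subgroup G) : Set G) := by
    by_contra hcon
    push Not at hcon
    apply huK
    have hBn : (M ⊓ (Subgroup.normalizer
        (((Q : Subgroup M).map M.subtype : Subgroup G) : Set G)).normalCore).Normal :=
      inferInstance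
    have hD : ((M ⊓ (Subgroup.normalizer
        (((Q : Subgroup M).map M.subtype : Subgroup G) : Set G)).normalCore) ⊓
        (Q : Subgroup M).map M.subtype).Normal := by
      constructor
      intro y hy g
      obtain ⟨hyB, hyQ⟩ := hy
      have hgB := hBn.conj_mem y hyB g
      refine ⟨hgB, ?_⟩
      apply sylow_mem_of_normalizer M Q _ hgB.1
      · obtain ⟨y', hy', rfl⟩ := hyQ
        obtain ⟨k, hk⟩ := (IsPGroup.iff_orderOf.mp Q.isPGroup') ⟨y', hy'⟩
        refine ⟨k, ?_⟩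
        have h1 : orderOf (g * M.subtype y' * g⁻¹) = orderOf (M.subtype y') := by
          have := (MulAut.conj g).orderOf_eq (M.subtype y')
          simpa [MulAut.conj_apply] using this
        rw [h1, ← hk]
        show orderOf (y' : G) = _
        rw [Subgroup.orderOf_coe]
        exact (Subgroup.orderOf_mk y' hy').symm
      · exact Subgroup.normalCore_le _ hgB.2
    have hDq : IsPGroup q ↥((M ⊓ (Subgroup.normalizer
        (((Q : Subgroup M).map M.subtype : Subgroup G) : Set G)).normalCore) ⊓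
        (Q : Subgroup M).map M.subtype) := (Q.isPGroup'.map M.subtype).to_le inf_le_right
    have hDK := ((le_pCore hD hDq).trans (pCore_le_fitting q)).trans hKF.ge
    apply hDK
    exact ⟨⟨hQ'M huQ, hcon⟩, huQ⟩
  obtain ⟨x, hx⟩ := hb2
  exact broline_sylow χ K hK M Q hM hLM u huQ hu x hx

/-- **Broline–Garrison.** -/
theorem broline {G : Type*} [Group G] [Finite G] (χ : IrrCharacter G) (K : Subgroup G)
    [K.Normal] (hK : ∀ g : G, g ∈ K ↔ χ.1 g = χ.1 1)
    (h : ¬ K ≤ fittingSubgroup G ∨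
      (K = fittingSubgroup G ∧ Group.IsSolvable (G ⧸ K) ∧ K ≠ ⊤)) :
    ∃ ψ : IrrCharacter G, charDegree χ.1 < charDegree ψ.1 ∧
      ∃ L : Subgroup G, (∀ g : G, g ∈ L ↔ ψ.1 g = ψ.1 1) ∧ L < K := by
  rcases h with h | ⟨h1, h2, h3⟩
  · exact broline_case1 χ K hK h
  · exact broline_case2 χ K hK h1 h2 h3

end Cfsg.Agent.Lib.Helper66
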