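import Mathlib
import Cfsg.Agent.Lib.Helper4.FCDefs
import Cfsg.Agent.S4035

/-!
# Project FC (helper4, S4146): piece APC

For `p ∣ n`, a Sylow `p`-subgroup of the normal subgroup `M = {x : cs x ∈ {1, m}}` is central in
`M`.
-/

set_option autoImplicit false

namespace Cfsg.Agent.Lib.Helper4.FC

universe u

/-- for `M` normal, `|M : C ∩ M|` divides `|G : C|` -/
theorem apc_helper66_relIndex_dvd {G : Type u} [Group G] [Finite G] (C M : Subgroup G)
    [M.Normal] : C.relIndex M ∣ C.index := by
  have h1 : C.relIndex M * M.index = (C ⊓ M).index := by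
    rw [← Subgroup.inf_relIndex_right C M]
    exact Subgroup.relIndex_mul_index inf_le_right
  have h2 : M.relIndex C * C.index = (C ⊓ M).index := by
    rw [← Subgroup.inf_relIndex_left C M]
    exact Subgroup.relIndex_mul_index inf_le_left
  obtain ⟨k, hk⟩ := Subgroup.relIndex_dvd_index_of_normal M C
  have h0 : 0 < M.relIndex C := Nat.pos_of_ne_zero Subgroup.index_ne_zero_of_finite
  refine ⟨k, ?_⟩
  apply Nat.eq_of_mul_eq_mul_left h0
  rw [h2, ← h1, hk]
  ring

/-- the centralizer of `y` in `M` is the trace on `M` of its centralizer in `G` -/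
theorem apc_helper66_centralizer_eq {G : Type u} [Group G] (M : Subgroup G) (y : M) :
    Subgroup.centralizer ({y} : Set M) = (Cen (y : G)).subgroupOf M := by
  ext c
  rw [Subgroup.mem_subgroupOf, Subgroup.mem_centralizer_iff, Subgroup.mem_centralizer_iff]
  constructor
  · intro h z hz
    rw [Set.mem_singleton_iff] at hz
    subst hz
    have h' := h y (Set.mem_singleton y)
    exact_mod_cast congrArg Subtype.val h'
  · intro h z hz
    rw [Set.mem_singleton_iff] at hz
    subst hz
    apply Subtype.ext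
    have h' := h (z : G) (Set.mem_singleton _)
    exact_mod_cast h'

/-- FC-APC -/
theorem fc_apc : APCStmt.{u} := by
  intro G _ _ n m p M hF hp hpn hMn hM P u y hu
  have : Fact p.Prime := ⟨hp⟩
  obtain ⟨hn1, hm1, hcop, hall, -, -, -⟩ := hF
  have hX : Subgroup.centralizer ((P : Subgroup M) : Set M) = ⊤ := by
    apply Cfsg.Agent.S4035.eq_top_of_forall_conj_mem
    intro y
    have hCidx : ¬ p ∣ (Subgroup.centralizer ({y} : Set M)).index := by
      rw [apc_helper66_centralizer_eq M y]
      change ¬ p ∣ (Cen (y : G)).relIndex M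
      intro hdvd
      have h1 : (Cen (y : G)).relIndex M ∣ m := by
        have h2 := apc_helper66_relIndex_dvd (Cen (y : G)) M
        rcases (hM (y : G)).1 y.2 with h | h
        · have h3 : (Cen (y : G)).index = 1 := h
          rw [h3] at h2
          exact h2.trans (one_dvd m)
        · have h3 : (Cen (y : G)).index = m := h
          rw [h3] at h2
          exact h2
      have hpm : p ∣ m := hdvd.trans h1
      have hpnm : p ∣ Nat.gcd n m := Nat.dvd_gcd hpn hpm
      rw [Nat.Coprime.gcd_eq_one hcop] at hpnm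
      exact hp.one_lt.ne' (Nat.dvd_one.mp hpnm)
    obtain ⟨q, hq⟩ := P.isPGroup'.nonempty_fixed_point_of_prime_not_dvd_card
      (M ⧸ Subgroup.centralizer ({y} : Set M)) hCidx
    obtain ⟨g, rfl⟩ := QuotientGroup.mk_surjective q
    refine ⟨g⁻¹, ?_⟩
    rw [Subgroup.mem_centralizer_iff]
    intro v hv
    have hfix := hq ⟨v, hv⟩
    have hfix' : ((v * g : M) : M ⧸ Subgroup.centralizer ({y} : Set M)) = (g : M ⧸ _) := hfix
    rw [QuotientGroup.eq, Subgroup.mem_centralizer_iff] at hfix'
    have hc := hfix' y (Set.mem_singleton y)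
    have key : g * y * g⁻¹ = v * (g * y * g⁻¹) * v⁻¹ := by
      calc g * y * g⁻¹ = (v * g) * ((v * g)⁻¹ * g * y) * g⁻¹ := by group
        _ = (v * g) * (y * ((v * g)⁻¹ * g)) * g⁻¹ := by rw [hc]
        _ = v * (g * y * g⁻¹) * v⁻¹ := by group
    rw [inv_inv]
    exact (eq_mul_inv_iff_mul_eq.mp key).symm
  have hy : y ∈ Subgroup.centralizer ((P : Subgroup M) : Set M) := by
    rw [hX]
    exact Subgroup.mem_top y
  exact Subgroup.mem_centralizer_iff.mp hy u hu

end Cfsg.Agent.Lib.Helper4.FC
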