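import Mathlib
import Cfsg.Agent.Lib.Helper4.FCDefs
import Cfsg.Agent.S4033
import Cfsg.Agent.S4034

/-!
# Project FC (helper4, S4146): piece S33APP

If the `q`-regular class sizes of `D` are `1` and `n`, and a `p`-element `w` (`p ≠ q`) has class
size `n`, then `n` divides `q ^ x * p ^ y` for some `x`, `y`.
-/

set_option autoImplicit false

namespace Cfsg.Agent.Lib.Helper4.FC

universe u

/-- the class size of a central element is `1` -/
theorem s33app_helper66_cs_of_central {D : Type u} [Group D] (w : D)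
    (hw : ∀ g : D, w * g = g * w) : cs w = 1 := by
  change (Subgroup.centralizer ({w} : Set D)).index = 1
  rw [Subgroup.index_eq_one, eq_top_iff]
  intro g _
  rw [Subgroup.mem_centralizer_iff]
  intro h hh
  rw [Set.mem_singleton_iff] at hh
  rw [hh]
  exact hw g

/-- the `q`-regular class sizes are exactly `{1, n}` -/
theorem s33app_helper66_range {D : Type u} [Group D] (q n : ℕ)
    (hreg : ∀ y : D, (orderOf y).Coprime q → cs y = 1 ∨ cs y = n) (w : D)
    (hwcop : (orderOf w).Coprime q) (hwn : cs w = n) :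
    Set.range (fun x : {x : D // (orderOf x).Coprime q} =>
      (ConjClasses.mk (x : D)).carrier.ncard) = {1, n} := by
  apply Set.eq_of_subset_of_subset
  · rintro k ⟨⟨x, hx⟩, rfl⟩
    change (ConjClasses.mk x).carrier.ncard ∈ ({1, n} : Set ℕ)
    rw [Cfsg.Agent.S4034.ncard_carrier_eq_index, Set.mem_insert_iff, Set.mem_singleton_iff]
    exact hreg x hx
  · intro k hk
    rw [Set.mem_insert_iff, Set.mem_singleton_iff] at hk
    rcases hk with hk | hk
    · refine ⟨⟨1, ?_⟩, ?_⟩
      · rw [orderOf_one]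
        exact Nat.coprime_one_left q
      · change (ConjClasses.mk (1 : D)).carrier.ncard = k
        rw [Cfsg.Agent.S4034.ncard_carrier_eq_index, hk]
        exact s33app_helper66_cs_of_central 1 (fun g => by rw [one_mul, mul_one])
    · refine ⟨⟨w, hwcop⟩, ?_⟩
      change (ConjClasses.mk w).carrier.ncard = k
      rw [Cfsg.Agent.S4034.ncard_carrier_eq_index, hk]
      exact hwn

/-- FC-S33APP -/
theorem fc_s33app : S33BStmt.{u} → S33AppStmt.{u} := by
  intro hB D _ _ q p n hq hp hpq hn hreg w hw hwn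
  obtain ⟨k, hk⟩ := hw
  have hwcop : (orderOf w).Coprime q := by
    rw [hk]
    exact Nat.Coprime.pow_left k ((Nat.coprime_primes hp hq).mpr hpq)
  have h2 : Set.ncard (Set.range (fun x : {x : D // (orderOf x).Coprime q} =>
      (ConjClasses.mk (x : D)).carrier.ncard)) = 2 := by
    rw [s33app_helper66_range q n hreg w hwcop hwn]
    exact Set.ncard_pair (Nat.ne_of_lt hn)
  rcases Cfsg.Agent.S4033.result hq h2 with hA | hBc
  · obtain ⟨j, hj⟩ := (Cfsg.Agent.S4034.result hq).mpr hA w hwcop
    rw [Cfsg.Agent.S4034.ncard_carrier_eq_index] at hj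
    have hnq : n = q ^ j := hwn.symm.trans hj
    refine ⟨j, 0, ?_⟩
    rw [hnq, pow_zero, mul_one]
  · obtain ⟨r, hr, P, R, A, hrq, hA, hcard, hnorm, hinf, hsup⟩ := hBc
    have hwnc : w ∉ Subgroup.center D := by
      intro hz
      have h1 : cs w = 1 :=
        s33app_helper66_cs_of_central w (fun g => ((Subgroup.mem_center_iff.mp hz) g).symm)
      have h3 : n = 1 := hwn.symm.trans h1
      omega
    obtain ⟨x, y, hxy⟩ :=
      hB D q p r P R A hq hp hr.out hpq hrq hA hcard hnorm hinf hsup w ⟨k, hk⟩ hwnc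
    refine ⟨x, y, ?_⟩
    rw [← hwn]
    exact hxy

end Cfsg.Agent.Lib.Helper4.FC
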