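import Mathlib

/-!
# Project QB (helper48, S2359): piece QB-PRED (backup copy)

Reduction to elements of prime order: the centralizer of `x` equals the centralizer of a power of
`x` of prime order, when the latter centralizer is commutative.
-/

set_option autoImplicit false

namespace Cfsg.Agent.Lib.Helper48.QB

-- QB-PRED
theorem prime_red {G : Type*} [Group G] [Finite G] (n : ℕ)
    (hkey : ∀ y : G, (orderOf y).Prime → y ^ n = 1 →
      ∀ a ∈ Subgroup.centralizer {y}, ∀ b ∈ Subgroup.centralizer {y}, a * b = b * a)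
    (x : G) (hx : x ≠ 1) (hxn : x ^ n = 1) :
    ∃ y : G, (orderOf y).Prime ∧ y ^ n = 1 ∧
      Subgroup.centralizer {x} = Subgroup.centralizer {y} := by
  have ho1 : orderOf x ≠ 1 := fun h => hx (orderOf_eq_one_iff.mp h)
  have ho0 : orderOf x ≠ 0 := (orderOf_pos x).ne'
  have hrp : (orderOf x).minFac.Prime := Nat.minFac_prime ho1
  obtain ⟨y, hydef⟩ : ∃ y : G, y = x ^ (orderOf x / (orderOf x).minFac) := ⟨_, rfl⟩
  have hyo : orderOf y = (orderOf x).minFac := by
    rw [hydef]
    exact orderOf_pow_orderOf_div ho0 (Nat.minFac_dvd _)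
  have hyp : (orderOf y).Prime := by
    rw [hyo]
    exact hrp
  have hyn : y ^ n = 1 := by
    rw [hydef, ← pow_mul, mul_comm, pow_mul, hxn, one_pow]
  have hxy : x ∈ Subgroup.centralizer {y} := by
    rw [Subgroup.mem_centralizer_iff]
    intro h hh
    rw [Set.mem_singleton_iff] at hh
    rw [hh, hydef, ← pow_succ, ← pow_succ']
  refine ⟨y, hyp, hyn, ?_⟩
  apply le_antisymm
  · intro c hc
    rw [Subgroup.mem_centralizer_iff] at hc ⊢
    intro h hh
    rw [Set.mem_singleton_iff] at hh
    have h1 : Commute x c := hc x (Set.mem_singleton x)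
    rw [hh, hydef]
    exact (h1.pow_left _).eq
  · intro c hc
    rw [Subgroup.mem_centralizer_iff]
    intro h hh
    rw [Set.mem_singleton_iff] at hh
    rw [hh]
    exact hkey y hyp hyn x hxy c hc

end Cfsg.Agent.Lib.Helper48.QB
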