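import Mathlib

/-!
# Project QB (helper48, S2359): piece QB-QUOT (backup copy)

If the centre of `S` has order `2` and the elements of odd prime order `r` of `S` have commutative
centralizers of order `A`, then the elements of order `r` of `S ⧸ Z(S)` have commutative
centralizers of order `A / 2`.
-/

set_option autoImplicit false

namespace Cfsg.Agent.Lib.Helper48.QB

/-- the centralizer of the image of `g` is the image of the centralizer of `g` -/
private theorem quotb_cent_eq {S : Type*} [Group S]
    (hz2 : ∀ z ∈ Subgroup.center S, z ^ 2 = 1) (r k : ℕ) (hrk : r = 2 * k + 1) (g : S)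
    (hgr : g ^ r = 1) :
    Subgroup.centralizer {(g : S ⧸ Subgroup.center S)} =
      (Subgroup.centralizer {g}).map (QuotientGroup.mk' (Subgroup.center S)) := by
  ext y
  constructor
  · intro hy
    obtain ⟨x, rfl⟩ := QuotientGroup.mk_surjective y
    rw [Subgroup.mem_centralizer_iff] at hy
    have h1 : (g : S ⧸ Subgroup.center S) * (x : S ⧸ Subgroup.center S) =
        (x : S ⧸ Subgroup.center S) * (g : S ⧸ Subgroup.center S) :=
      hy _ (Set.mem_singleton _)
    have h2 : ((g * x : S) : S ⧸ Subgroup.center S) = ((x * g : S) : S ⧸ Subgroup.center S) := h1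
    rw [QuotientGroup.eq] at h2
    obtain ⟨z, hzdef⟩ : ∃ z : S, z = (g * x)⁻¹ * (x * g) := ⟨_, rfl⟩
    rw [← hzdef] at h2
    have hzc : ∀ s : S, s * z = z * s := fun s => Subgroup.mem_center_iff.mp h2 s
    have hxg : x * g = g * x * z := by
      rw [hzdef]
      group
    have hconj : x * g * x⁻¹ = g * z := by
      rw [hxg, mul_assoc (g * x) z, ← hzc x⁻¹, mul_assoc g x, mul_inv_cancel_left]
    have hpow : (g * z) ^ r = z ^ r := by
      have hcomm : Commute g z := hzc g
      rw [hcomm.mul_pow, hgr, one_mul]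
    have hpow' : (x * g * x⁻¹) ^ r = 1 := by
      rw [conj_pow, hgr, mul_one, mul_inv_cancel]
    have hzr : z ^ r = 1 := by
      rw [← hpow, ← hconj]
      exact hpow'
    have hz1 : z = 1 := by
      have h3 : z ^ r = z := by
        rw [hrk, pow_succ, pow_mul, hz2 z h2, one_pow, one_mul]
      rw [← h3]
      exact hzr
    have hcomm : g * x = x * g := by
      rw [hxg, hz1, mul_one]
    refine ⟨x, ?_, rfl⟩
    rw [SetLike.mem_coe, Subgroup.mem_centralizer_iff]
    intro h hh
    rw [Set.mem_singleton_iff] at hh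
    rw [hh]
    exact hcomm
  · rintro ⟨x, hx, rfl⟩
    rw [SetLike.mem_coe, Subgroup.mem_centralizer_iff] at hx
    rw [Subgroup.mem_centralizer_iff]
    intro h hh
    rw [Set.mem_singleton_iff] at hh
    rw [hh]
    have h1 : g * x = x * g := hx g (Set.mem_singleton g)
    change ((g * x : S) : S ⧸ Subgroup.center S) = ((x * g : S) : S ⧸ Subgroup.center S)
    rw [h1]

-- QB-QUOT
theorem quot_cent {S : Type*} [Group S] [Finite S] (hZ : Nat.card (Subgroup.center S) = 2)
    (r A : ℕ) (hr : r.Prime) (hr2 : r ≠ 2)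
    (hS : ∀ g : S, orderOf g = r → Nat.card (Subgroup.centralizer {g}) = A ∧
      ∀ a ∈ Subgroup.centralizer {g}, ∀ b ∈ Subgroup.centralizer {g}, a * b = b * a)
    (l : S ⧸ Subgroup.center S) (hl : orderOf l = r) :
    Nat.card (Subgroup.centralizer {l}) = A / 2 ∧
      ∀ a ∈ Subgroup.centralizer {l}, ∀ b ∈ Subgroup.centralizer {l}, a * b = b * a := by
  classical
  have hrF : Fact r.Prime := ⟨hr⟩
  obtain ⟨g₀, rfl⟩ := QuotientGroup.mk_surjective l
  have hz2 : ∀ z ∈ Subgroup.center S, z ^ 2 = 1 := by
    intro z hz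
    have h := pow_card_eq_one' (G := Subgroup.center S) (x := ⟨z, hz⟩)
    rw [hZ] at h
    have h' : (((⟨z, hz⟩ : Subgroup.center S) ^ 2 : Subgroup.center S) : S) = 1 :=
      congrArg Subtype.val h
    rw [Subgroup.coe_pow] at h'
    exact h'
  obtain ⟨k, hk⟩ : ∃ k, r = 2 * k + 1 := by
    rcases hr.eq_two_or_odd' with h | h
    · exact absurd h hr2
    · exact h
  -- the good lift
  obtain ⟨g, hgdef⟩ : ∃ g : S, g = g₀ ^ (r + 1) := ⟨_, rfl⟩
  have hg₀r : g₀ ^ r ∈ Subgroup.center S := by
    rw [← QuotientGroup.eq_one_iff, QuotientGroup.mk_pow, ← hl]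
    exact pow_orderOf_eq_one _
  have hgr : g ^ r = 1 := by
    rw [hgdef, ← pow_mul, mul_comm, pow_mul]
    have h1 : r + 1 = 2 * (k + 1) := by omega
    rw [h1, pow_mul, hz2 _ hg₀r, one_pow]
  have hgimg : (g : S ⧸ Subgroup.center S) = (g₀ : S ⧸ Subgroup.center S) := by
    rw [hgdef, QuotientGroup.mk_pow, pow_succ]
    have h1 : (g₀ : S ⧸ Subgroup.center S) ^ r = 1 := by
      rw [← hl]
      exact pow_orderOf_eq_one _
    rw [h1, one_mul]
  have hg1 : g ≠ 1 := by
    intro h
    have h1 : (g₀ : S ⧸ Subgroup.center S) = 1 := by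
      rw [← hgimg, h]
      rfl
    rw [h1, orderOf_one] at hl
    exact hr.one_lt.ne hl
  have hord : orderOf g = r := orderOf_eq_prime hgr hg1
  obtain ⟨hA, hcomm⟩ := hS g hord
  have hcent := quotb_cent_eq hz2 r k hk g hgr
  rw [hgimg] at hcent
  rw [hcent]
  constructor
  · -- the order
    have hker : (QuotientGroup.mk' (Subgroup.center S)).ker ≤ Subgroup.centralizer {g} := by
      rw [QuotientGroup.ker_mk']
      exact Subgroup.center_le_centralizer _
    have hidx := Subgroup.index_map_eq (H := Subgroup.centralizer {g})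
      (QuotientGroup.mk'_surjective (Subgroup.center S)) hker
    have h1 := Subgroup.card_mul_index (Subgroup.centralizer ({g} : Set S))
    have h2 := Subgroup.card_mul_index
      ((Subgroup.centralizer ({g} : Set S)).map (QuotientGroup.mk' (Subgroup.center S)))
    have h3 := Subgroup.card_eq_card_quotient_mul_card_subgroup (Subgroup.center S)
    rw [hidx] at h2
    rw [hA] at h1
    rw [hZ, ← h2, ← h1] at h3
    have h0 : 0 < (Subgroup.centralizer ({g} : Set S)).index :=
      Nat.pos_of_ne_zero Subgroup.index_ne_zero_of_finite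
    have h4 : A = Nat.card ((Subgroup.centralizer ({g} : Set S)).map
        (QuotientGroup.mk' (Subgroup.center S))) * 2 := by
      apply Nat.eq_of_mul_eq_mul_right h0
      rw [h3]
      ring
    rw [h4, Nat.mul_div_cancel _ (by norm_num : 0 < 2)]
  · -- commutativity
    rintro a ⟨a', ha', rfl⟩ b ⟨b', hb', rfl⟩
    rw [← map_mul, ← map_mul, hcomm a' ha' b' hb']

end Cfsg.Agent.Lib.Helper48.QB
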