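import Mathlib

/-!
# Project QB (helper48, S2359): piece QB-SYLCONJ (backup copy)

If `M` contains a full Sylow `r`-subgroup of `G`, every element of order `r` is conjugate into `M`.
-/

set_option autoImplicit false

namespace Cfsg.Agent.Lib.Helper48.QB

-- QB-SYLCONJ
theorem syl_conj {G : Type*} [Group G] [Finite G] (M : Subgroup G) (r : ℕ) (hr : r.Prime)
    (hfac : (Nat.card M).factorization r = (Nat.card G).factorization r)
    (y : G) (hy : orderOf y = r) : ∃ g : G, g * y * g⁻¹ ∈ M := by
  have hrF : Fact r.Prime := ⟨hr⟩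
  obtain ⟨Q⟩ : Nonempty (Sylow r M) := inferInstance
  have hQcard : Nat.card ((Q : Subgroup M).map M.subtype) =
      r ^ (Nat.card G).factorization r := by
    rw [Subgroup.card_map_of_injective M.subtype_injective, ← hfac]
    exact Q.card_eq_multiplicity
  have hP : IsPGroup r (Subgroup.zpowers y) :=
    IsPGroup.of_card (n := 1) (by rw [Nat.card_zpowers, hy, pow_one])
  obtain ⟨P, hPle⟩ := hP.exists_le_sylow
  obtain ⟨g, hg⟩ := MulAction.exists_smul_eq G P (Sylow.ofCard _ hQcard)
  refine ⟨g, ?_⟩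
  have h1 : g * y * g⁻¹ ∈ ((g • P : Sylow r G) : Subgroup G) := by
    rw [Sylow.coe_subgroup_smul]
    have h2 := Subgroup.smul_mem_pointwise_smul y (MulAut.conj g) (P : Subgroup G)
      (hPle (Subgroup.mem_zpowers y))
    rw [MulAut.smul_def, MulAut.conj_apply] at h2
    exact h2
  rw [hg] at h1
  have h3 : g * y * g⁻¹ ∈ (Q : Subgroup M).map M.subtype := h1
  obtain ⟨x, -, hx⟩ := h3
  rw [← hx]
  exact x.2

end Cfsg.Agent.Lib.Helper48.QB
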